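import Mathlib

/-!
Function fields of integral schemes over a field of characteristic zero are perfect.
-/

universe u

open CategoryTheory AlgebraicGeometry

namespace Groth.Agent.GenSmoothLib

theorem perfectField_functionField (k : Type u) [Field k] [CharZero k] {Y : Scheme.{u}} [IsIntegral Y]
    (q : Y ⟶ Spec (CommRingCat.of k)) : PerfectField Y.functionField := by
  have : Nonempty (⊤ : Y.Opens) := ⟨⟨genericPoint Y, trivial⟩⟩
  let φ : k →+* Y.functionField :=
    ((Scheme.ΓSpecIso (CommRingCat.of k)).inv ≫ q.appTop ≫ Y.germToFunctionField ⊤).hom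
  have : CharZero Y.functionField := charZero_of_injective_ringHom φ.injective
  infer_instance

theorem finitePresentation_of_overField (k : Type u) [Field k] {X Y : Scheme.{u}}
    {qX : X ⟶ Spec (CommRingCat.of k)} {qY : Y ⟶ Spec (CommRingCat.of k)}
    [LocallyOfFiniteType qX] [LocallyOfFiniteType qY] (f : X ⟶ Y) (hf : f ≫ qY = qX) :
    LocallyOfFinitePresentation f := by
  subst hf
  have : IsLocallyNoetherian Y := LocallyOfFiniteType.isLocallyNoetherian qY
  have : LocallyOfFiniteType f := locallyOfFiniteType_of_comp f qY
  infer_instance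

end Groth.Agent.GenSmoothLib
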