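import Groth.Agent.GenSmoothLib.CotangentCriterion
import Groth.Prelude.Def_FixPt

/-!
Local rings of smooth schemes at closed points over an algebraically closed field, and the
smoothness criterion by cotangent maps.
-/

set_option autoImplicit false
set_option backward.isDefEq.respectTransparency.types false
universe u

open CategoryTheory AlgebraicGeometry TopologicalSpace

namespace Groth.Agent.GenSmoothLib

variable {k : Type u} [Field k]

/-- The structure map into a stalk. -/
noncomputable def stalkStr {X : Scheme.{u}} (q : X ⟶ Spec (CommRingCat.of k)) (x : X) :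
    k →+* X.presheaf.stalk x :=
  ((Scheme.ΓSpecIso (CommRingCat.of k)).inv ≫ q.appTop ≫ X.presheaf.germ ⊤ x trivial).hom

theorem stalkMap_stalkStr {X Y : Scheme.{u}} (qX : X ⟶ Spec (CommRingCat.of k))
    (qY : Y ⟶ Spec (CommRingCat.of k)) (f : X ⟶ Y) (hf : f ≫ qY = qX) (x : X) :
    (f.stalkMap x).hom.comp (stalkStr qY (f x)) = stalkStr qX x := by
  subst hf
  have h : ((Scheme.ΓSpecIso (CommRingCat.of k)).inv ≫ qY.appTop ≫ Y.presheaf.germ ⊤ (f x) trivial) ≫
      f.stalkMap x =
      (Scheme.ΓSpecIso (CommRingCat.of k)).inv ≫ (f ≫ qY).appTop ≫ X.presheaf.germ ⊤ x trivial := by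
    rw [Category.assoc, Category.assoc, Scheme.Hom.germ_stalkMap f ⊤ x trivial, Scheme.Hom.comp_appTop,
      Category.assoc]
    rfl
  exact congrArg CommRingCat.Hom.hom h

/-- Stalks of a smooth scheme over a field: formally smooth, essentially of finite type, and with
residue field `k` at closed points when `k` is algebraically closed. -/
theorem stalk_facts {X : Scheme.{u}} (q : X ⟶ Spec (CommRingCat.of k)) [Smooth q] (x : X) :
    letI := (stalkStr q x).toAlgebra
    Algebra.EssFiniteType k (X.presheaf.stalk x) ∧ Algebra.FormallySmooth k (X.presheaf.stalk x) ∧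
      (IsAlgClosed k → IsClosed ({x} : Set X) →
        Function.Bijective (algebraMap k (IsLocalRing.ResidueField (X.presheaf.stalk x)))) := by
  obtain ⟨_, ⟨V, hV, rfl⟩, hxV, -⟩ :=
    X.isBasis_affineOpens.exists_subset_of_mem_open (Set.mem_univ x) isOpen_univ
  letI := (stalkStr q x).toAlgebra
  let φ : k →+* Γ(X, V) := (q.appLE ⊤ V le_top).hom.comp (Scheme.ΓSpecIso (CommRingCat.of k)).inv.hom
  letI algA : Algebra k Γ(X, V) := φ.toAlgebra
  letI algS := TopCat.Presheaf.algebra_section_stalk X.presheaf (⟨x, hxV⟩ : V)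
  haveI : IsScalarTower k Γ(X, V) (X.presheaf.stalk x) := IsScalarTower.of_algebraMap_eq' (by
    have h : (Scheme.ΓSpecIso (CommRingCat.of k)).inv ≫ q.appTop ≫ X.presheaf.germ ⊤ x trivial =
        ((Scheme.ΓSpecIso (CommRingCat.of k)).inv ≫ q.appLE ⊤ V le_top) ≫ X.presheaf.germ V x hxV := by
      rw [Scheme.Hom.appLE, Category.assoc, Category.assoc, TopCat.Presheaf.germ_res]
      rfl
    exact congrArg CommRingCat.Hom.hom h)
  have hsm : Algebra.Smooth k Γ(X, V) := by
    rw [← RingHom.smooth_algebraMap]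
    have h1 := HasRingHomProperty.appLE @Smooth q ‹_› ⟨⊤, isAffineOpen_top _⟩ ⟨V, hV⟩ le_top
    exact RingHom.Smooth.propertyIsLocal.respectsIso.2 (q.appLE ⊤ V le_top).hom
      (Scheme.ΓSpecIso (CommRingCat.of k)).commRingCatIsoToRingEquiv.symm h1
  let P := (hV.primeIdealOf ⟨x, hxV⟩)
  haveI hloc : IsLocalization.AtPrime (X.presheaf.stalk x) P.asIdeal := hV.isLocalization_stalk ⟨x, hxV⟩
  haveI : Algebra.FormallySmooth Γ(X, V) (X.presheaf.stalk x) := .of_isLocalization P.asIdeal.primeCompl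
  haveI : Algebra.EssFiniteType Γ(X, V) (X.presheaf.stalk x) := .of_isLocalization _ P.asIdeal.primeCompl
  refine ⟨.comp k Γ(X, V) _, .comp k Γ(X, V) _, fun _ hx => ?_⟩
  have hmax : P.asIdeal.IsMaximal := by
    rw [← PrimeSpectrum.isClosed_singleton_iff_isMaximal]
    have h1 : ({P} : Set (PrimeSpectrum Γ(X, V))) = hV.fromSpec ⁻¹' {x} := by
      ext z
      simp only [Set.mem_singleton_iff, Set.mem_preimage]
      constructor
      · rintro rfl; exact hV.fromSpec_primeIdealOf ⟨x, hxV⟩
      · intro h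
        exact hV.fromSpec.isOpenEmbedding.injective (h.trans (hV.fromSpec_primeIdealOf ⟨x, hxV⟩).symm)
    rw [h1]
    exact hx.preimage hV.fromSpec.continuous
  haveI := hmax
  refine ⟨RingHom.injective _, fun z => ?_⟩
  letI : Field (Γ(X, V) ⧸ P.asIdeal) := Ideal.Quotient.field _
  haveI : Module.Finite k (Γ(X, V) ⧸ P.asIdeal) :=
    finite_of_finite_type_of_isJacobsonRing k (Γ(X, V) ⧸ P.asIdeal)
  obtain ⟨y, rfl⟩ := IsLocalRing.residue_surjective z
  obtain ⟨⟨a, s⟩, has⟩ := IsLocalization.surj P.asIdeal.primeCompl y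
  have hsurj := (IsAlgClosed.algebraMap_bijective_of_isIntegral (k := k) (K := Γ(X, V) ⧸ P.asIdeal)).2
  obtain ⟨ca, hca⟩ := hsurj (Ideal.Quotient.mk _ a)
  obtain ⟨cs, hcs⟩ := hsurj (Ideal.Quotient.mk _ (s : Γ(X, V)))
  have hres : ∀ (b : Γ(X, V)) (c : k), algebraMap k (Γ(X, V) ⧸ P.asIdeal) c = Ideal.Quotient.mk _ b →
      IsLocalRing.residue _ (algebraMap Γ(X, V) (X.presheaf.stalk x) b) =
        algebraMap k (IsLocalRing.ResidueField (X.presheaf.stalk x)) c := by
    intro b c hc
    rw [IsScalarTower.algebraMap_apply k (X.presheaf.stalk x) (IsLocalRing.ResidueField _),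
      IsScalarTower.algebraMap_apply k Γ(X, V) (X.presheaf.stalk x), IsLocalRing.ResidueField.algebraMap_eq,
      ← sub_eq_zero, ← map_sub, IsLocalRing.residue_eq_zero_iff, ← map_sub,
      IsLocalization.AtPrime.to_map_mem_maximal_iff (X.presheaf.stalk x) P.asIdeal,
      ← Ideal.Quotient.eq_zero_iff_mem, map_sub, ← hc]
    exact sub_self _
  have hcs0 : cs ≠ 0 := fun h => s.2 (Ideal.Quotient.eq_zero_iff_mem.1 (by
    rw [← hcs, h, map_zero]))
  refine ⟨ca / cs, ?_⟩
  rw [map_div₀, div_eq_iff (by simpa using hcs0), ← hres a ca hca, ← hres s cs hcs, ← map_mul, has]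

/-- At a closed point, an injective cotangent map between smooth schemes gives smoothness. -/
theorem mem_smoothLocus_of_cotangentMapAt [IsAlgClosed k] {X Y : Scheme.{u}}
    (qX : X ⟶ Spec (CommRingCat.of k)) (qY : Y ⟶ Spec (CommRingCat.of k)) [Smooth qX] [Smooth qY]
    (f : X ⟶ Y) (hf : f ≫ qY = qX) [LocallyOfFinitePresentation f] (x : X) (hx : IsClosed ({x} : Set X))
    (hy : IsClosed ({f x} : Set Y)) (h : Function.Injective (FixPt.cotangentMapAt f x (f.base x) rfl)) :
    x ∈ f.smoothLocus := by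
  rw [Scheme.Hom.mem_smoothLocus]
  letI := (stalkStr qX x).toAlgebra
  letI := (stalkStr qY (f x)).toAlgebra
  letI := (f.stalkMap x).hom.toAlgebra
  haveI : IsScalarTower k (Y.presheaf.stalk (f x)) (X.presheaf.stalk x) :=
    IsScalarTower.of_algebraMap_eq' (stalkMap_stalkStr qX qY f hf x).symm
  haveI : IsLocalHom (algebraMap (Y.presheaf.stalk (f x)) (X.presheaf.stalk x)) :=
    inferInstanceAs (IsLocalHom (f.stalkMap x).hom)
  obtain ⟨hA1, hA2, hA3⟩ := stalk_facts qY (f x)
  obtain ⟨hB1, hB2, hB3⟩ := stalk_facts qX x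
  haveI := hA1; haveI := hA2; haveI := hB1; haveI := hB2
  refine (formallySmooth_of_cotangent_injective k _ _ (hA3 ‹_› hy) (hB3 ‹_› hx) fun a ha hab => ?_ :
    Algebra.FormallySmooth (Y.presheaf.stalk (f x)) (X.presheaf.stalk x))
  have h0 : (IsLocalRing.maximalIdeal (Y.presheaf.stalk (f x))).toCotangent ⟨a, ha⟩ = 0 := h (by
    rw [map_zero]
    refine (Ideal.mapCotangent_toCotangent ..).trans ?_
    rw [Ideal.toCotangent_eq_zero]
    have he : FixPt.stalkMapAt f x (f.base x) rfl a = (f.stalkMap x).hom a := by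
      simp [FixPt.stalkMapAt]
    show FixPt.stalkMapAt f x (f.base x) rfl a ∈ _
    rw [he]
    exact hab)
  rwa [Ideal.toCotangent_eq_zero] at h0

end Groth.Agent.GenSmoothLib
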