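import Groth.Agent.GenSmoothLib.ClosedStalk

/-!
A smooth morphism of smooth schemes has injective cotangent maps at closed points.
-/

set_option autoImplicit false
set_option backward.isDefEq.respectTransparency.types false
universe u

open IsLocalRing TensorProduct KaehlerDifferential CategoryTheory AlgebraicGeometry

namespace Groth.Agent.GenSmoothLib

/-- A formally smooth local homomorphism of smooth local algebras at rational points has injective
cotangent map. -/
theorem mem_sq_of_formallySmooth (k : Type u) [Field k] (A B : Type u) [CommRing A] [CommRing B]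
    [Algebra k A] [Algebra k B] [Algebra A B] [IsScalarTower k A B] [IsLocalRing A] [IsLocalRing B]
    [IsLocalHom (algebraMap A B)] [Algebra.EssFiniteType k A] [Algebra.EssFiniteType k B]
    [Algebra.FormallySmooth k A] [Algebra.FormallySmooth k B] [Algebra.FormallySmooth A B]
    (hA : Function.Bijective (algebraMap k (ResidueField A)))
    (hB : Function.Bijective (algebraMap k (ResidueField B)))
    (a : A) (ha : a ∈ maximalIdeal A) (hab : algebraMap A B a ∈ maximalIdeal B ^ 2) :
    a ∈ maximalIdeal A ^ 2 := by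
  haveI : Module.Free A Ω[A⁄k] := Module.free_of_flat_of_isLocalRing
  haveI : Module.Free B Ω[B⁄k] := Module.free_of_flat_of_isLocalRing
  let T : B ⊗[A] Ω[A⁄k] →ₗ[B] Ω[B⁄k] := mapBaseChange k A B
  have hT : Function.Injective T := by
    rw [injective_iff_map_eq_zero]
    intro z hz
    obtain ⟨w, rfl⟩ := (Algebra.H1Cotangent.exact_δ_mapBaseChange k A B z).1 hz
    rw [Subsingleton.elim w 0, map_zero]
  obtain ⟨s, hs⟩ := LinearMap.exists_rightInverse_of_surjective (KaehlerDifferential.map k A B B)
    (LinearMap.range_eq_top.2 (KaehlerDifferential.map_surjective k A B))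
  have h01 : (Function.Injective T ∧ ∃ l, (KaehlerDifferential.map k A B B) ∘ₗ l = LinearMap.id) ↔
      (Function.Surjective (KaehlerDifferential.map k A B B) ∧ ∃ l, l ∘ₗ T = LinearMap.id) :=
    (exact_mapBaseChange_map k A B).split_tfae'.out 0 1
  obtain ⟨-, hl⟩ := h01.1 ⟨hT, s, hs⟩
  have hTinj := (IsLocalRing.split_injective_iff_lTensor_residueField_injective T).1 hl
  have hD : (1 : ResidueField B) ⊗ₜ[B] D k B (algebraMap A B a) = 0 := by
    rw [sq] at hab
    generalize algebraMap A B a = b at hab
    induction hab using Submodule.mul_induction_on' with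
    | mem_mul_mem x hx y hy =>
      rw [Derivation.leibniz, tmul_add, ← smul_tmul, ← smul_tmul, Algebra.smul_def, Algebra.smul_def,
        IsLocalRing.ResidueField.algebraMap_eq, (residue_eq_zero_iff x).2 hx,
        (residue_eq_zero_iff y).2 hy]
      simp
    | add x _ y _ hx hy => rw [map_add, tmul_add, hx, hy, add_zero]
  have h1 : (1 : ResidueField B) ⊗ₜ[B] ((1 : B) ⊗ₜ[A] D k A a) = 0 := hTinj (by
    rw [map_zero, LinearMap.lTensor_tmul]
    simpa [T, mapBaseChange_tmul] using hD)
  have h2 : (1 : ResidueField B) ⊗ₜ[A] D k A a = 0 := by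
    have := congrArg (AlgebraTensorModule.cancelBaseChange A B B (ResidueField B) Ω[A⁄k]) h1
    simpa using this
  let g : ResidueField A →ₗ[A] ResidueField B := Submodule.liftQ (maximalIdeal A)
    (Algebra.linearMap A (ResidueField B)) fun x hx => by
      rw [LinearMap.mem_ker, Algebra.linearMap_apply, IsScalarTower.algebraMap_apply A B (ResidueField B)]
      exact (residue_eq_zero_iff _).2 ((mem_maximalIdeal _).2 fun hu =>
        (mem_maximalIdeal _).1 hx (IsUnit.of_map (algebraMap A B) x hu))
  have hg : ∀ x : A, g (residue A x) = algebraMap A (ResidueField B) x := fun x => rfl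
  have hgk : ∀ c : k, g (algebraMap k (ResidueField A) c) = algebraMap k (ResidueField B) c := fun c => by
    rw [IsScalarTower.algebraMap_apply k A (ResidueField A), IsLocalRing.ResidueField.algebraMap_eq, hg,
      IsScalarTower.algebraMap_apply k B (ResidueField B), IsScalarTower.algebraMap_apply k A B,
      IsScalarTower.algebraMap_apply A B (ResidueField B)]
  have hgb : Function.Bijective g := by
    refine ⟨fun x y h => ?_, fun z => ?_⟩
    · obtain ⟨c, rfl⟩ := hA.2 x
      obtain ⟨d, rfl⟩ := hA.2 y
      rw [hgk, hgk] at h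
      rw [hB.1 h]
    · obtain ⟨c, rfl⟩ := hB.2 z
      exact ⟨_, hgk c⟩
  refine mem_sq_of_tmul_D_eq_zero k A hA a ha ((LinearEquiv.rTensor Ω[A⁄k] (LinearEquiv.ofBijective g hgb)).injective ?_)
  rw [map_zero, LinearEquiv.rTensor_tmul]
  show g 1 ⊗ₜ[A] D k A a = 0
  rw [← map_one (residue A), hg, map_one]
  exact h2

/-- Smooth morphisms of smooth schemes have injective cotangent maps at closed points. -/
theorem cotangentMapAt_injective_of_smooth {k : Type u} [Field k] [IsAlgClosed k] {X Y : Scheme.{u}}
    (qX : X ⟶ Spec (CommRingCat.of k)) (qY : Y ⟶ Spec (CommRingCat.of k)) [Smooth qX] [Smooth qY]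
    (f : X ⟶ Y) (hf : f ≫ qY = qX) [Smooth f] (x : X) (hx : IsClosed ({x} : Set X))
    (hy : IsClosed ({f x} : Set Y)) : Function.Injective (FixPt.cotangentMapAt f x (f.base x) rfl) := by
  letI := (stalkStr qX x).toAlgebra
  letI := (stalkStr qY (f x)).toAlgebra
  letI := (f.stalkMap x).hom.toAlgebra
  haveI : IsScalarTower k (Y.presheaf.stalk (f x)) (X.presheaf.stalk x) :=
    IsScalarTower.of_algebraMap_eq' (stalkMap_stalkStr qX qY f hf x).symm
  haveI : IsLocalHom (algebraMap (Y.presheaf.stalk (f x)) (X.presheaf.stalk x)) :=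
    inferInstanceAs (IsLocalHom (f.stalkMap x).hom)
  haveI : Algebra.FormallySmooth (Y.presheaf.stalk (f x)) (X.presheaf.stalk x) :=
    Scheme.Hom.mem_smoothLocus.1 (f.smoothLocus_eq_top.ge (TopologicalSpace.Opens.mem_top x))
  obtain ⟨hA1, hA2, hA3⟩ := stalk_facts qY (f x)
  obtain ⟨hB1, hB2, hB3⟩ := stalk_facts qX x
  haveI := hA1; haveI := hA2; haveI := hB1; haveI := hB2
  rw [injective_iff_map_eq_zero]
  intro z hz
  obtain ⟨⟨a, ha⟩, rfl⟩ := Ideal.toCotangent_surjective _ z
  rw [Ideal.toCotangent_eq_zero]
  refine mem_sq_of_formallySmooth k _ _ (hA3 ‹_› hy) (hB3 ‹_› hx) a ha ?_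
  have h2 := (Ideal.mapCotangent_toCotangent ..).symm.trans hz
  rw [Ideal.toCotangent_eq_zero] at h2
  have he : FixPt.stalkMapAt f x (f.base x) rfl a = (f.stalkMap x).hom a := by
    simp [FixPt.stalkMapAt]
  change FixPt.stalkMapAt f x (f.base x) rfl a ∈ _ at h2
  rw [he] at h2
  exact h2

end Groth.Agent.GenSmoothLib
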