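import Groth.Agent.AlgSpLib.RelDimLocus
import Groth.Agent.DimLib.Points

/-!
Fibre dimension over a field, local dimension of varieties.
-/

set_option autoImplicit false
set_option backward.isDefEq.respectTransparency.types false
universe u

open CategoryTheory AlgebraicGeometry TopologicalSpace

namespace Groth.Agent.GenSmoothLib

variable {k : Type u} [Field k] {Z : Scheme.{u}} (p : Z ⟶ Spec (CommRingCat.of k))

/-- The fibre dimension of a morphism to the spectrum of a field is the local dimension. -/
theorem fibreDimAt_toField (z : Z) : FlatMor.fibreDimAt p z = FlatMor.localDim Z z := by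
  rw [AlgSpLib.fibreDimAt_eq_subspace]
  have hu : (p ⁻¹' {p z} : Set Z) = Set.univ := by
    have : Subsingleton (Spec (CommRingCat.of k)) := inferInstanceAs (Subsingleton (PrimeSpectrum k))
    exact Set.eq_univ_of_forall fun w => Subsingleton.elim (p w) (p z)
  let e : (p ⁻¹' {p z} : Set Z) ≃ₜ Z := (Homeomorph.setCongr hu).trans (Homeomorph.Set.univ Z)
  have := AlgSpLib.quasiSober_fibre p (p z)
  exact AlgSpLib.localDim_eq_of_map e.continuous e.isOpenMap e.isOpenEmbedding.generalizingMap
    (fun _ _ _ h => e.injective h) _

variable [LocallyOfFiniteType p]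

include p in
/-- Constant local dimension gives the dimension. -/
theorem topologicalKrullDim_eq_of_localDim [Nonempty Z] (d : WithBot ℕ∞)
    (h : ∀ z : Z, FlatMor.localDim Z z = d) : topologicalKrullDim Z = d := by
  obtain ⟨z₀⟩ := ‹Nonempty Z›
  have hd : 0 ≤ d := h z₀ ▸ AlgSpLib.localDim_nonneg z₀
  refine AlgSpLib.eq_of_forall_nat_le_iff ?_ hd fun n => ?_
  · rw [DimLib.topologicalKrullDim_eq_iSup p]
    exact le_iSup_of_le z₀ (by exact_mod_cast Nat.zero_le _)
  · rw [DimLib.topologicalKrullDim_eq_iSup p, iSup_le_iff]
    constructor
    · intro H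
      rw [← h z₀, FlatMorDim.localDim_le_iff p]
      exact fun w _ => by exact_mod_cast H w
    · intro H w
      rw [← h w, FlatMorDim.localDim_le_iff p] at H
      exact_mod_cast H w specializes_rfl

include p in
/-- On an irreducible scheme the local dimension is the dimension everywhere. -/
theorem localDim_eq_topologicalKrullDim [IrreducibleSpace Z] (z : Z) :
    FlatMor.localDim Z z = topologicalKrullDim Z := by
  rw [DimLib.topologicalKrullDim_eq_ptDim_genericPoint p]
  refine AlgSpLib.eq_of_forall_nat_le_iff (AlgSpLib.localDim_nonneg z) (by exact_mod_cast Nat.zero_le _) fun n => ?_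
  rw [FlatMorDim.localDim_le_iff p]
  constructor
  · intro H
    exact_mod_cast H _ (genericPoint_specializes z)
  · intro H w _
    have h1 : DimLib.ptDim p (genericPoint Z) ≤ n := by exact_mod_cast H
    by_cases hw : genericPoint Z = w
    · exact hw ▸ h1
    · exact ((DimLib.ptDim_lt_of_specializes p (genericPoint_specializes w) hw).le).trans h1

end Groth.Agent.GenSmoothLib
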