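import Groth.Agent.GenSmoothLib.ClosedStalk
import Groth.Agent.GenSmoothLib.SmoothDim
import Groth.Agent.Unram17Lib.RelDim
import Groth.Agent.OmegaLib.LocFree
import Groth.Agent.MorProj.OmegaAffine

/-!
The smoothness criterion by freeness of the sheaf of differentials.
-/

set_option autoImplicit false
set_option backward.isDefEq.respectTransparency.types false
universe u

open CategoryTheory AlgebraicGeometry TopologicalSpace TensorProduct KaehlerDifferential

namespace Groth.Agent.GenSmoothLib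

section algebra

variable {R A B : Type u} [CommRing R] [CommRing A] [CommRing B] [Algebra R A] [Algebra R B] [Algebra A B]
  [IsScalarTower R A B]

theorem exists_basis_of_formallyUnramified [Algebra.FormallyUnramified R A] {n : ℕ}
    (b : Module.Basis (Fin n) B Ω[B⁄R]) : Nonempty (Module.Basis (Fin n) B Ω[B⁄A]) := by
  have hinj : Function.Injective (KaehlerDifferential.map R A B B) := by
    rw [injective_iff_map_eq_zero]
    intro z hz
    obtain ⟨w, rfl⟩ := (exact_mapBaseChange_map R A B z).1 hz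
    rw [Subsingleton.elim w 0, map_zero]
  exact ⟨b.map (LinearEquiv.ofBijective _ ⟨hinj, map_surjective R A B⟩)⟩

theorem formallySmooth_of_ranks [IsLocalRing B] [Algebra.FormallySmooth R B] {a n : ℕ}
    (bA : Module.Basis (Fin a) A Ω[A⁄R]) (bB : Module.Basis (Fin (a + n)) B Ω[B⁄R])
    (bBA : Module.Basis (Fin n) B Ω[B⁄A]) : Algebra.FormallySmooth A B := by
  let T : B ⊗[A] Ω[A⁄R] →ₗ[B] Ω[B⁄R] := mapBaseChange R A B
  let κ := IsLocalRing.ResidueField B
  haveI : Module.Free B (B ⊗[A] Ω[A⁄R]) := .of_basis (bA.baseChange B)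
  haveI : Module.Finite B (B ⊗[A] Ω[A⁄R]) := .of_basis (bA.baseChange B)
  haveI : Module.Free B Ω[B⁄R] := .of_basis bB
  haveI : Module.Finite B Ω[B⁄R] := .of_basis bB
  let T' := T.baseChange κ
  let M' := (KaehlerDifferential.map R A B B).baseChange κ
  have h1 : Module.finrank κ (κ ⊗[B] (B ⊗[A] Ω[A⁄R])) = a := by
    rw [Module.finrank_eq_card_basis ((bA.baseChange B).baseChange κ), Fintype.card_fin]
  have h2 : Module.finrank κ (κ ⊗[B] Ω[B⁄R]) = a + n := by
    rw [Module.finrank_eq_card_basis (bB.baseChange κ), Fintype.card_fin]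
  have h3 : Module.finrank κ (κ ⊗[B] Ω[B⁄A]) = n := by
    rw [Module.finrank_eq_card_basis (bBA.baseChange κ), Fintype.card_fin]
  have hsurj : Function.Surjective M' := LinearMap.lTensor_surjective κ (map_surjective R A B)
  have hex : Function.Exact T' M' := lTensor_exact κ (exact_mapBaseChange_map R A B) (map_surjective R A B)
  have hinj : Function.Injective T' := by
    have h4 := LinearMap.finrank_range_add_finrank_ker M'
    rw [LinearMap.range_eq_top.2 hsurj, finrank_top, h2, h3, hex.linearMap_ker_eq] at h4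
    have h5 := LinearMap.finrank_range_add_finrank_ker T'
    rw [h1] at h5
    rw [← LinearMap.ker_eq_bot, ← Submodule.finrank_eq_zero]
    omega
  have hTinj : Function.Injective (T.lTensor κ) := hinj
  obtain ⟨l, hl⟩ := (IsLocalRing.split_injective_iff_lTensor_residueField_injective T).2 hTinj
  have hT : Function.Injective T := Function.LeftInverse.injective (g := l) (LinearMap.congr_fun hl)
  rw [Algebra.formallySmooth_iff]
  refine ⟨Module.Projective.of_basis bBA, ⟨fun x y => ?_⟩⟩
  suffices ∀ z : Algebra.H1Cotangent A B, z = 0 by rw [this x, this y]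
  intro z
  have h6 : Algebra.H1Cotangent.δ R A B z = 0 := hT (by
    rw [map_zero]; exact (Algebra.H1Cotangent.exact_δ_mapBaseChange R A B).apply_apply_eq_zero z)
  obtain ⟨w, rfl⟩ := (Algebra.H1Cotangent.exact_map_δ R A B z).1 h6
  rw [Subsingleton.elim w 0, map_zero]

end algebra

section scheme

variable {k : Type u} [Field k]

theorem smoothOfRelativeDimension_toField {Z : Scheme.{u}} (q : Z ⟶ Spec (CommRingCat.of k))
    [IsIntegral Z] [Smooth q] {d : ℕ} (hd : topologicalKrullDim ↥Z = d) :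
    SmoothOfRelativeDimension d q := by
  choose U m hxU hm using Unram17Lib.exists_smoothOfRelativeDimension q
  have hmn : ∀ x, m x = d := fun x => by
    haveI := hm x
    have h2 := Unram17Lib.fibreDimAt_eq_of_openImmersion (U x).ι (𝟙 _) (h := q) (h' := (U x).ι ≫ q)
      (Category.comp_id _).symm (⟨x, hxU x⟩ : (U x).toScheme)
    rw [Unram17Lib.fibreDimAt_of_smoothOfRelativeDimension ((U x).ι ≫ q) (m x)] at h2
    have h1 : FlatMor.fibreDimAt q x = (m x : WithBot ℕ∞) := h2
    rw [fibreDimAt_toField q, localDim_eq_topologicalKrullDim q, hd] at h1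
    exact_mod_cast h1.symm
  refine IsZariskiLocalAtSource.of_iSup_eq_top (P := @SmoothOfRelativeDimension d) U
    (Opens.ext (Set.eq_univ_of_forall fun x => by simpa using ⟨x, hxU x⟩)) fun x => ?_
  exact hmn x ▸ hm x

/-- Stalks of a smooth scheme of dimension `d` over a field have differentials free of rank `d`. -/
theorem exists_basis_stalk {Z : Scheme.{u}} (q : Z ⟶ Spec (CommRingCat.of k)) {d : ℕ}
    [SmoothOfRelativeDimension d q] (z : Z) :
    letI := (stalkStr q z).toAlgebra
    Nonempty (Module.Basis (Fin d) (Z.presheaf.stalk z) Ω[(Z.presheaf.stalk z)⁄k]) := by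
  obtain ⟨W, hW, V, hV, hxV, e, h⟩ :=
    SmoothOfRelativeDimension.exists_isStandardSmoothOfRelativeDimension (n := d) (f := q) z
  have hWtop : W = ⊤ := Opens.ext (Set.eq_univ_of_forall fun p => by
    rw [show p = q z from Subsingleton.elim (α := PrimeSpectrum k) p (q z)]; exact e hxV)
  subst hWtop
  letI := (stalkStr q z).toAlgebra
  let φ : k →+* Γ(Z, V) := (q.appLE ⊤ V le_top).hom.comp (Scheme.ΓSpecIso (CommRingCat.of k)).inv.hom
  letI algA : Algebra k Γ(Z, V) := φ.toAlgebra
  letI algS := TopCat.Presheaf.algebra_section_stalk Z.presheaf (⟨z, hxV⟩ : V)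
  haveI : IsScalarTower k Γ(Z, V) (Z.presheaf.stalk z) := IsScalarTower.of_algebraMap_eq' (by
    have h : (Scheme.ΓSpecIso (CommRingCat.of k)).inv ≫ q.appTop ≫ Z.presheaf.germ ⊤ z trivial =
        ((Scheme.ΓSpecIso (CommRingCat.of k)).inv ≫ q.appLE ⊤ V le_top) ≫ Z.presheaf.germ V z hxV := by
      rw [Scheme.Hom.appLE, Category.assoc, Category.assoc, TopCat.Presheaf.germ_res]
      rfl
    exact congrArg CommRingCat.Hom.hom h)
  haveI : Algebra.IsStandardSmoothOfRelativeDimension d k Γ(Z, V) :=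
    RingHom.isStandardSmoothOfRelativeDimension_respectsIso.2 (q.appLE ⊤ V le_top).hom
      (Scheme.ΓSpecIso (CommRingCat.of k)).commRingCatIsoToRingEquiv.symm h
  obtain ⟨b⟩ := OmegaLib.exists_basis_kaehler k Γ(Z, V) d
  haveI hloc : IsLocalization.AtPrime (Z.presheaf.stalk z) (hV.primeIdealOf ⟨z, hxV⟩).asIdeal :=
    hV.isLocalization_stalk ⟨z, hxV⟩
  haveI : Algebra.FormallyEtale Γ(Z, V) (Z.presheaf.stalk z) :=
    .of_isLocalization (hV.primeIdealOf ⟨z, hxV⟩).asIdeal.primeCompl
  exact ⟨(b.baseChange (Z.presheaf.stalk z)).map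
    (KaehlerDifferential.tensorKaehlerEquivOfFormallyEtale k Γ(Z, V) (Z.presheaf.stalk z))⟩

variable {X Y : Scheme.{u}} (f : X ⟶ Y) [QuasiSeparated f]

/-- The differentials of the section rings of affine opens and the sections of `Omega.sheaf f`. -/
theorem exists_omega_equiv {U : X.Opens} (hU : IsAffineOpen U) {V : Y.Opens} (hV : IsAffineOpen V)
    (h : U ≤ f ⁻¹ᵁ V) :
    letI := (f.appLE V U h).hom.toAlgebra
    Nonempty (Ω[Γ(X, U)⁄Γ(Y, V)] ≃ₗ[Γ(X, U)] Γ(Omega.sheaf f, U)) := by
  letI := (f.appLE V U h).hom.toAlgebra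
  haveI := MorProj.isIso_toSect f hU hV h
  exact ⟨(asIso (OmAff.toSect f V U h)).toLinearEquiv⟩

/-- At a point, a locally free sheaf of differentials of rank `n` makes the differentials of the
local rings free of rank `n`. -/
theorem exists_basis_omega_stalk {n : ℕ} (hΩ : FlatMod.IsFinLocFreeOfRank n (Omega.sheaf f)) (x : X) :
    letI := (f.stalkMap x).hom.toAlgebra
    Nonempty (Module.Basis (Fin n) (X.presheaf.stalk x) Ω[(X.presheaf.stalk x)⁄(Y.presheaf.stalk (f x))]) := by
  obtain ⟨O, hxO, ⟨eO⟩⟩ := hΩ x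
  obtain ⟨_, ⟨W, hW, rfl⟩, hyW, -⟩ :=
    Y.isBasis_affineOpens.exists_subset_of_mem_open (Set.mem_univ (f x)) isOpen_univ
  obtain ⟨_, ⟨V, hV, rfl⟩, hxV, hVO⟩ :=
    X.isBasis_affineOpens.exists_subset_of_mem_open (show x ∈ ((O ⊓ f ⁻¹ᵁ W : X.Opens) : Set X) from ⟨hxO, hyW⟩)
      (O ⊓ f ⁻¹ᵁ W).2
  have hVW : V ≤ f ⁻¹ᵁ W := fun p hp => (hVO hp).2
  obtain ⟨bs⟩ := Props12.exists_basis_sections eO (W := V) fun p hp => (hVO hp).1
  letI := (f.appLE W V hVW).hom.toAlgebra
  obtain ⟨ψ⟩ := exists_omega_equiv f hV hW hVW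
  let b := bs.map ψ.symm
  letI := (f.stalkMap x).hom.toAlgebra
  letI algA := TopCat.Presheaf.algebra_section_stalk Y.presheaf (⟨f x, hyW⟩ : W)
  letI algB := TopCat.Presheaf.algebra_section_stalk X.presheaf (⟨x, hxV⟩ : V)
  letI algR : Algebra Γ(Y, W) (X.presheaf.stalk x) :=
    ((X.presheaf.germ V x hxV).hom.comp (f.appLE W V hVW).hom).toAlgebra
  haveI : IsScalarTower Γ(Y, W) Γ(X, V) (X.presheaf.stalk x) := IsScalarTower.of_algebraMap_eq' rfl
  haveI : IsScalarTower Γ(Y, W) (Y.presheaf.stalk (f x)) (X.presheaf.stalk x) :=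
    IsScalarTower.of_algebraMap_eq' (congrArg CommRingCat.Hom.hom
      (show f.appLE W V hVW ≫ X.presheaf.germ V x hxV = Y.presheaf.germ W (f x) hyW ≫ f.stalkMap x by
        rw [Scheme.Hom.germ_stalkMap f W x hyW, Scheme.Hom.appLE, Category.assoc, TopCat.Presheaf.germ_res]))
  haveI : IsLocalization.AtPrime (X.presheaf.stalk x) (hV.primeIdealOf ⟨x, hxV⟩).asIdeal :=
    hV.isLocalization_stalk ⟨x, hxV⟩
  haveI : IsLocalization.AtPrime (Y.presheaf.stalk (f x)) (hW.primeIdealOf ⟨f x, hyW⟩).asIdeal :=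
    hW.isLocalization_stalk ⟨f x, hyW⟩
  haveI : Algebra.FormallyEtale Γ(X, V) (X.presheaf.stalk x) :=
    .of_isLocalization (hV.primeIdealOf ⟨x, hxV⟩).asIdeal.primeCompl
  haveI : Algebra.FormallyUnramified Γ(Y, W) (Y.presheaf.stalk (f x)) :=
    .of_isLocalization (hW.primeIdealOf ⟨f x, hyW⟩).asIdeal.primeCompl
  exact exists_basis_of_formallyUnramified ((b.baseChange (X.presheaf.stalk x)).map
    (KaehlerDifferential.tensorKaehlerEquivOfFormallyEtale Γ(Y, W) Γ(X, V) (X.presheaf.stalk x)))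

end scheme

end Groth.Agent.GenSmoothLib
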