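import Groth.Agent.GenSmoothLib.CotangentConverse
import Groth.Agent.GenSmoothLib.CharZero
import Groth.Agent.DimLib.Components
import Groth.Agent.DimLib.Morphism
import Groth.Agent.FlatMor12.GenericSmooth
import Groth.Agent.Coherent.Chow

/-!
Rank of tangent maps bounds the dimension of images in characteristic zero.
-/

set_option autoImplicit false
set_option backward.isDefEq.respectTransparency.types false
universe u

open CategoryTheory AlgebraicGeometry TopologicalSpace IsLocalRing

namespace Groth.Agent.GenSmoothLib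

variable (k : Type u) [Field k]

section alg

variable (RY RX RZ RO : Type u) [CommRing RY] [CommRing RX] [CommRing RZ] [CommRing RO]
  [IsLocalRing RY] [IsLocalRing RX] [IsLocalRing RZ] [IsLocalRing RO]

theorem ringKrullDim_le_of_cotangent_span [IsNoetherianRing RZ] [Algebra k RZ] [Algebra k RO]
    (hZ : Function.Bijective (algebraMap k (ResidueField RZ)))
    (hO : Function.Bijective (algebraMap k (ResidueField RO)))
    (φ : RY →+* RX) (ρ : RX →+* RO) (σ : RY →+* RZ) [IsLocalHom ρ] [IsLocalHom φ]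
    (ψ : RZ →ₐ[k] RO) (hψm : maximalIdeal RZ ≤ (maximalIdeal RO).comap ψ)
    (hσ : Function.Surjective σ) (hsq : ∀ a, ψ (σ a) = ρ (φ a))
    (hinj : Function.Injective (Ideal.mapCotangent _ _ ψ hψm))
    {r : ℕ} (S : Finset (CotangentSpace RX)) (hr : S.card ≤ r)
    (hspan : ∀ (a : RY) (ha : φ a ∈ maximalIdeal RX),
      (maximalIdeal RX).toCotangent ⟨φ a, ha⟩ ∈ Submodule.span (ResidueField RX) (S : Set (CotangentSpace RX))) :
    ringKrullDim RZ ≤ r := by
  classical
  have hρm : maximalIdeal RX ≤ (maximalIdeal RO).comap ρ.toIntAlgHom := fun a ha =>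
    (mem_maximalIdeal _).2 fun hu => (mem_maximalIdeal _).1 ha (IsUnit.of_map ρ a hu)
  let Φ := Ideal.mapCotangent (maximalIdeal RX) (maximalIdeal RO) ρ.toIntAlgHom hρm
  haveI : IsScalarTower k RO (CotangentSpace RO) := inferInstance
  have hsc : ∀ (b : RO) (v : CotangentSpace RO), ∃ c : k, b • v = c • v := fun b v => by
    obtain ⟨c, hc⟩ := hO.2 (residue RO b)
    refine ⟨c, ?_⟩
    rw [← algebraMap_smul RO c v]
    obtain ⟨w, rfl⟩ := (maximalIdeal RO).toCotangent_surjective v
    rw [← map_smul, ← map_smul, Ideal.toCotangent_eq]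
    show b * (w : RO) - algebraMap k RO c * (w : RO) ∈ _
    rw [← sub_mul, sq]
    refine Ideal.mul_mem_mul ?_ w.2
    rw [← residue_eq_zero_iff, map_sub, sub_eq_zero]
    exact hc.symm.trans (IsScalarTower.algebraMap_apply k RO (ResidueField RO) c)
  let T : Submodule k (CotangentSpace RO) := Submodule.span k (S.image Φ : Set (CotangentSpace RO))
  have hT : ∀ v ∈ Submodule.span (ResidueField RX) (S : Set (CotangentSpace RX)), Φ v ∈ T := by
    intro v hv
    induction hv using Submodule.span_induction with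
    | mem y hy => exact Submodule.subset_span (Finset.mem_image_of_mem Φ hy)
    | zero => rw [map_zero]; exact zero_mem _
    | add y z _ _ hy hz => rw [map_add]; exact add_mem hy hz
    | smul a y _ hy =>
      obtain ⟨a, rfl⟩ := residue_surjective a
      obtain ⟨w, rfl⟩ := (maximalIdeal RX).toCotangent_surjective y
      obtain ⟨c, hc⟩ := hsc (ρ a) (Φ ((maximalIdeal RX).toCotangent w))
      have h1 : Φ (residue RX a • (maximalIdeal RX).toCotangent w) =
          ρ a • Φ ((maximalIdeal RX).toCotangent w) := by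
        show Φ ((maximalIdeal RX).toCotangent (a • w)) = _
        simp only [Φ]
        rw [Ideal.mapCotangent_toCotangent, Ideal.mapCotangent_toCotangent, ← map_smul]
        congr 1
        ext
        exact map_mul ρ a w
      rw [h1, hc]
      exact T.smul_mem c hy
  let L := Ideal.mapCotangent (maximalIdeal RZ) (maximalIdeal RO) ψ hψm
  have hL : ∀ v, L v ∈ T := fun v => by
    obtain ⟨⟨b, hb⟩, rfl⟩ := (maximalIdeal RZ).toCotangent_surjective v
    obtain ⟨a, rfl⟩ := hσ b
    have haY : a ∈ maximalIdeal RY := (mem_maximalIdeal _).2 fun hu =>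
      (mem_maximalIdeal _).1 hb (hu.map σ)
    have haX : φ a ∈ maximalIdeal RX := (mem_maximalIdeal _).2 fun hu =>
      (mem_maximalIdeal _).1 haY (IsUnit.of_map φ a hu)
    have h1 := hT _ (hspan a haX)
    simp only [Φ, L] at h1 ⊢
    rw [Ideal.mapCotangent_toCotangent] at h1 ⊢
    convert h1 using 3
    exact hsq a
  haveI : Module.Finite k T := Module.Finite.span_of_finite k (Finset.finite_toSet _)
  let L' : CotangentSpace RZ →ₗ[k] T := L.codRestrict T hL
  have h2 : Module.finrank k (CotangentSpace RZ) ≤ r :=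
    (LinearMap.finrank_le_finrank_of_injective (f := L') fun v w e =>
      hinj (congrArg Subtype.val e)).trans ((finrank_span_finset_le_card _).trans (Finset.card_image_le.trans hr))
  haveI : IsScalarTower k (ResidueField RZ) (CotangentSpace RZ) := IsScalarTower.of_algebraMap_smul fun a v => by
    obtain ⟨w, rfl⟩ := (maximalIdeal RZ).toCotangent_surjective v
    rw [IsScalarTower.algebraMap_apply k RZ (ResidueField RZ) a]
    show algebraMap k RZ a • (maximalIdeal RZ).toCotangent w = a • (maximalIdeal RZ).toCotangent w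
    exact algebraMap_smul RZ a _
  rw [← Module.finrank_mul_finrank k (ResidueField RZ) (CotangentSpace RZ),
    show Module.finrank k (ResidueField RZ) = 1 from
      (LinearEquiv.ofBijective (Algebra.linearMap k (ResidueField RZ)) hZ).finrank_eq.symm.trans
        (Module.finrank_self k), one_mul,
    ← IsLocalRing.spanFinrank_maximalIdeal_eq_finrank_cotangentSpace] at h2
  exact (ringKrullDim_le_spanFinrank_maximalIdeal RZ).trans (by exact_mod_cast h2)

end alg

variable {k} [IsAlgClosed k]

/-- The local ring at a closed point of an integral scheme over a field has the dimension of the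
scheme. -/
theorem ringKrullDim_stalk_of_isClosed {Z : Scheme.{u}} (q : Z ⟶ Spec (CommRingCat.of k)) [IsIntegral Z]
    [LocallyOfFiniteType q] (z : Z) (hz : IsClosed ({z} : Set Z)) :
    ringKrullDim (Z.presheaf.stalk z) = (DimLib.ptDim q (genericPoint Z) : WithBot ℕ∞) := by
  obtain ⟨_, ⟨V, hV, rfl⟩, hzV, -⟩ :=
    Z.isBasis_affineOpens.exists_subset_of_mem_open (Set.mem_univ z) isOpen_univ
  have hgV : genericPoint Z ∈ V := (genericPoint_specializes z).mem_open V.2 hzV
  haveI : Nonempty V := ⟨⟨z, hzV⟩⟩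
  let φ : k →+* Γ(Z, V) := ((Scheme.ΓSpecIso (CommRingCat.of k)).inv ≫ q.appLE ⊤ V le_top).hom
  letI : Algebra k Γ(Z, V) := φ.toAlgebra
  haveI hft : Algebra.FiniteType k Γ(Z, V) := by
    rw [← RingHom.finiteType_algebraMap]
    exact RingHom.finiteType_respectsIso.2 (q.appLE ⊤ V le_top).hom
      (Scheme.ΓSpecIso (CommRingCat.of k)).commRingCatIsoToRingEquiv.symm
      (HasRingHomProperty.appLE @LocallyOfFiniteType q ‹_› ⟨⊤, isAffineOpen_top _⟩ ⟨V, hV⟩ le_top)
  haveI hP : (hV.primeIdealOf ⟨z, hzV⟩).asIdeal.IsMaximal := by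
    rw [← PrimeSpectrum.isClosed_singleton_iff_isMaximal]
    have h1 : ({hV.primeIdealOf ⟨z, hzV⟩} : Set (PrimeSpectrum Γ(Z, V))) = hV.fromSpec ⁻¹' {z} := by
      ext w
      simp only [Set.mem_singleton_iff, Set.mem_preimage]
      constructor
      · rintro rfl; exact hV.fromSpec_primeIdealOf ⟨z, hzV⟩
      · intro h
        exact hV.fromSpec.isOpenEmbedding.injective (h.trans (hV.fromSpec_primeIdealOf ⟨z, hzV⟩).symm)
    rw [h1]
    exact hz.preimage hV.fromSpec.continuous
  letI := TopCat.Presheaf.algebra_section_stalk Z.presheaf (⟨z, hzV⟩ : V)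
  haveI := hV.isLocalization_stalk ⟨z, hzV⟩
  have e : hV.fromSpec ≫ q = Spec.map (CommRingCat.ofHom φ) := by
    rw [show CommRingCat.ofHom φ = (Scheme.ΓSpecIso (CommRingCat.of k)).inv ≫ q.appLE ⊤ V le_top from rfl,
      Spec.map_comp, ← IsAffineOpen.SpecMap_appLE_fromSpec q (isAffineOpen_top _) hV le_top,
      IsAffineOpen.fromSpec_top, Scheme.isoSpec_Spec_inv]
  have h5 := DimLib.ptDim_chart q φ (RingHom.finiteType_algebraMap.2 hft) hV.fromSpec e
    (hV.primeIdealOf ⟨genericPoint Z, hgV⟩)
  rw [hV.fromSpec_primeIdealOf] at h5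
  have hbot : (hV.primeIdealOf ⟨genericPoint Z, hgV⟩).asIdeal = ⊥ := by
    erw [hV.primeIdealOf_genericPoint]
    rw [genericPoint_eq_bot_of_affine]
    rfl
  rw [IsLocalization.AtPrime.ringKrullDim_eq_height (hV.primeIdealOf ⟨z, hzV⟩).asIdeal (Z.presheaf.stalk z),
    DimLib.height_eq_of_isMaximal (k := k), ← h5, hbot]
  exact (ringKrullDim_eq_of_ringEquiv (RingEquiv.quotientBot _)).symm

variable [CharZero k]

theorem stalkMap_congr_inv {A B : Scheme.{u}} (m₁ m₂ : A ⟶ B) (h : m₁ = m₂) (o : A) (he : m₁ o = m₂ o) :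
    (B.presheaf.stalkCongr (Inseparable.of_eq he)).inv ≫ m₁.stalkMap o = m₂.stalkMap o := by
  subst h
  simp

theorem ptDim_image_le {X Y : Scheme.{u}} (qX : X ⟶ Spec (CommRingCat.of k)) (qY : Y ⟶ Spec (CommRingCat.of k))
    [LocallyOfFiniteType qX] [QuasiCompact qX] [LocallyOfFiniteType qY]
    (f : X ⟶ Y) (hf : f ≫ qY = qX) (r : ℕ) (ω : X) (A : Set X)
    (hA : ∀ a ∈ A, IsClosed ({a} : Set X) ∧ ∃ S : Finset (CotangentSpace (X.presheaf.stalk a)), S.card ≤ r ∧
      (LinearMap.range (FixPt.cotangentMapAt f a (f.base a) rfl) : Set (CotangentSpace (X.presheaf.stalk a))) ⊆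
        (Submodule.span (ResidueField (X.presheaf.stalk a)) (S : Set (CotangentSpace (X.presheaf.stalk a))) : Set (CotangentSpace (X.presheaf.stalk a))))
    (hdense : ∀ O : Set X, IsOpen O → ω ∈ O → ∃ a ∈ A, a ∈ O ∧ ω ⤳ a) :
    DimLib.ptDim qY (f ω) ≤ r := by
  haveI : IsLocallyNoetherian X := LocallyOfFiniteType.isLocallyNoetherian qX
  haveI : IsLocallyNoetherian Y := LocallyOfFiniteType.isLocallyNoetherian qY
  haveI : CompactSpace X := QuasiCompact.compactSpace_of_compactSpace qX
  let h := X.fromSpecResidueField ω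
  haveI : QuasiCompact h := inferInstance
  haveI : IsReduced h.image := Coherent.isReduced_image h
  haveI : IrreducibleSpace h.image := by
    have h1 : _root_.IsPreirreducible (Set.univ : Set h.image) := by
      rw [← h.toImage.denseRange.closure_range, ← Set.image_univ]
      exact ((IrreducibleSpace.isIrreducible_univ _).2.image h.toImage
        h.toImage.continuous.continuousOn).closure
    exact { toPreirreducibleSpace := ⟨h1⟩, toNonempty := ⟨h.toImage (IsLocalRing.closedPoint _)⟩ }
  haveI : IsIntegral h.image := isIntegral_of_irreducibleSpace_of_isReduced _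
  let ι := h.imageι
  have hη : ι (genericPoint h.image) = ω := by
    rw [← FlatMor12.GenericSmooth.genericPoint_eq_of_isDominant h.toImage]
    refine Eq.trans ?_ (X.fromSpecResidueField_apply ω (IsLocalRing.closedPoint _))
    rw [show genericPoint (Spec (X.residueField ω)) = IsLocalRing.closedPoint _ from
      Subsingleton.elim (α := PrimeSpectrum (X.residueField ω)) _ _]
    rw [← Scheme.Hom.comp_apply, Scheme.Hom.toImage_imageι]
  have hrange : ∀ a, ω ⤳ a → a ∈ Set.range ι := fun a ha =>
    ha.mem_closed ι.isClosedEmbedding.isClosed_range ⟨_, hη⟩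
  haveI : CompactSpace h.image := ι.isClosedEmbedding.compactSpace
  let g := ι ≫ f
  haveI : QuasiCompact g := inferInstance
  haveI : IsReduced g.image := Coherent.isReduced_image g
  haveI : IrreducibleSpace g.image := by
    have h1 : _root_.IsPreirreducible (Set.univ : Set g.image) := by
      rw [← g.toImage.denseRange.closure_range, ← Set.image_univ]
      exact ((IrreducibleSpace.isIrreducible_univ _).2.image g.toImage
        g.toImage.continuous.continuousOn).closure
    exact { toPreirreducibleSpace := ⟨h1⟩, toNonempty := ⟨g.toImage (genericPoint _)⟩ }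
  haveI : IsIntegral g.image := isIntegral_of_irreducibleSpace_of_isReduced _
  let qZ := g.imageι ≫ qY
  let qW := ι ≫ qX
  let gZ := g.toImage
  have hgZ : gZ ≫ qZ = qW := by
    simp only [gZ, qZ, qW, Scheme.Hom.toImage_imageι_assoc, g, Category.assoc, hf]
  haveI : LocallyOfFiniteType qW := inferInstance
  haveI : LocallyOfFiniteType qZ := inferInstance
  haveI : LocallyOfFinitePresentation gZ := finitePresentation_of_overField k gZ hgZ
  haveI : IsLocallyNoetherian g.image := LocallyOfFiniteType.isLocallyNoetherian qZ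
  haveI : LocallyOfFinitePresentation qZ := inferInstance
  haveI : IsDominant qZ := ⟨by
    rw [denseRange_iff_closure_range, Set.eq_univ_iff_forall]
    exact fun p => subset_closure ⟨genericPoint g.image, Subsingleton.elim (α := PrimeSpectrum k) _ _⟩⟩
  haveI : PerfectField g.image.functionField := perfectField_functionField k qZ
  haveI : PerfectField (Spec (CommRingCat.of k)).functionField := perfectField_functionField k (𝟙 _)
  haveI : IsRegularLocalRing (g.image.presheaf.stalk (genericPoint g.image)) :=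
    inferInstanceAs (IsRegularLocalRing g.image.functionField)
  haveI : IsRegularLocalRing (h.image.presheaf.stalk (genericPoint h.image)) :=
    inferInstanceAs (IsRegularLocalRing h.image.functionField)
  have hg1 : genericPoint h.image ∈ gZ.smoothLocus :=
    FlatMor12.GenericSmooth.mem_smoothLocus_of_regular gZ _ (FlatMor12.GenericSmooth.genericPoint_eq_of_isDominant gZ)
  have hq1 : genericPoint g.image ∈ qZ.smoothLocus :=
    FlatMor12.GenericSmooth.mem_smoothLocus_of_regular qZ _ (FlatMor12.GenericSmooth.genericPoint_eq_of_isDominant qZ)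
  let Zs := qZ.smoothLocus
  let O : h.image.Opens := gZ.smoothLocus ⊓ gZ ⁻¹ᵁ Zs
  have hηO : genericPoint h.image ∈ O :=
    ⟨hg1, show gZ (genericPoint h.image) ∈ Zs by rw [FlatMor12.GenericSmooth.genericPoint_eq_of_isDominant gZ]; exact hq1⟩
  obtain ⟨O', hO', hOe⟩ := ι.isClosedEmbedding.isInducing.isOpen_iff.1 O.2
  have hωO : ω ∈ O' := by
    rw [← hη]
    exact (Set.ext_iff.1 hOe (genericPoint h.image)).2 hηO
  obtain ⟨a, haA, haO, hωa⟩ := hdense O' hO' hωO
  obtain ⟨w, rfl⟩ := hrange a hωa
  have hw : w ∈ O := (Set.ext_iff.1 hOe w).1 haO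
  obtain ⟨hcl, S, hS, hrk⟩ := hA _ haA
  have hwcl : IsClosed ({w} : Set h.image) := by
    have : ({w} : Set h.image) = ι ⁻¹' {ι w} := by
      ext v; exact ⟨fun e => congrArg ι e, fun e => ι.isClosedEmbedding.injective e⟩
    rw [this]
    exact hcl.preimage ι.continuous
  -- the smooth restriction
  let gs : O.toScheme ⟶ Zs.toScheme := gZ.resLE Zs O inf_le_right
  have hgs : gs ≫ Zs.ι = O.ι ≫ gZ := Scheme.Hom.resLE_comp_ι _ _
  haveI : Smooth (O.ι ≫ gZ) := by
    rw [← Scheme.Hom.smoothLocus_eq_top_iff, ← Scheme.Hom.preimage_smoothLocus_eq]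
    exact Opens.ext (Set.eq_univ_of_forall fun v => (v.2 : v.1 ∈ O).1)
  haveI : Smooth gs := by
    haveI : Smooth (gs ≫ Zs.ι) := by rw [hgs]; infer_instance
    exact MorphismProperty.of_postcomp (W := @Smooth) (W' := @IsOpenImmersion) gs Zs.ι inferInstance ‹_›
  haveI : Smooth (Zs.ι ≫ qZ) := by
    rw [← Scheme.Hom.smoothLocus_eq_top_iff, ← Scheme.Hom.preimage_smoothLocus_eq]
    exact Opens.ext (Set.eq_univ_of_forall fun v => v.2)
  let qO := gs ≫ Zs.ι ≫ qZ
  haveI : Smooth qO := inferInstance
  let o : O.toScheme := ⟨w, hw⟩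
  have hocl : IsClosed ({o} : Set O.toScheme) := by
    have : ({o} : Set O.toScheme) = O.ι ⁻¹' {w} := by
      ext v; exact ⟨fun e => congrArg O.ι e, fun e => O.ι.isOpenEmbedding.injective e⟩
    rw [this]
    exact hwcl.preimage O.ι.continuous
  haveI : LocallyOfFiniteType (gs ≫ Zs.ι ≫ qZ) := inferInstance
  have hzcl : IsClosed ({gs o} : Set Zs.toScheme) := DimLib.isClosed_singleton_image (Zs.ι ≫ qZ) gs hocl
  have hinj := cotangentMapAt_injective_of_smooth qO (Zs.ι ≫ qZ) gs rfl o hocl hzcl
  haveI : Nonempty Zs.toScheme := ⟨gs o⟩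
  haveI : IsIntegral Zs.toScheme := isIntegral_of_isOpenImmersion Zs.ι
  have hdim := ringKrullDim_stalk_of_isClosed (Zs.ι ≫ qZ) (gs o) hzcl
  rw [DimLib.ptDim_comp_preimmersion qZ Zs.ι, genericPoint_eq_of_isOpenImmersion Zs.ι,
    DimLib.ptDim_comp_preimmersion qY g.imageι,
    ← FlatMor12.GenericSmooth.genericPoint_eq_of_isDominant gZ] at hdim
  rw [← Scheme.Hom.comp_apply, Scheme.Hom.toImage_imageι, Scheme.Hom.comp_apply, hη] at hdim
  -- the square of local rings
  let j : O.toScheme ⟶ X := O.ι ≫ ι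
  let l : Zs.toScheme ⟶ Y := Zs.ι ≫ g.imageι
  haveI : IsPreimmersion j := inferInstance
  haveI : IsPreimmersion l := inferInstance
  have hjl : gs ≫ l = j ≫ f := by
    simp only [l, j, Category.assoc]
    rw [reassoc_of% hgs, Scheme.Hom.toImage_imageι]
  have he : l (gs o) = f (j o) := congrArg (fun m : O.toScheme ⟶ Y => m o) hjl
  letI := (stalkStr qO o).toAlgebra
  letI := (stalkStr (Zs.ι ≫ qZ) (gs o)).toAlgebra
  let ψ : Zs.toScheme.presheaf.stalk (gs o) →ₐ[k] O.toScheme.presheaf.stalk o :=
    { (gs.stalkMap o).hom with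
      commutes' := fun c => DFunLike.congr_fun (stalkMap_stalkStr qO (Zs.ι ≫ qZ) gs rfl o) c }
  have hψm : maximalIdeal (Zs.toScheme.presheaf.stalk (gs o)) ≤
      (maximalIdeal (O.toScheme.presheaf.stalk o)).comap ψ := fun b hb =>
    (mem_maximalIdeal _).2 fun hu => (mem_maximalIdeal _).1 hb (IsUnit.of_map (gs.stalkMap o).hom b hu)
  let σ : Y.presheaf.stalk (f (j o)) →+* Zs.toScheme.presheaf.stalk (gs o) :=
    ((Y.presheaf.stalkCongr (Inseparable.of_eq he)).inv ≫ l.stalkMap (gs o)).hom
  have hσ : Function.Surjective σ := (l.stalkMap_surjective (gs o)).comp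
    (ConcreteCategory.bijective_of_isIso (Y.presheaf.stalkCongr (Inseparable.of_eq he)).inv).2
  obtain ⟨-, -, hbZ⟩ := stalk_facts (Zs.ι ≫ qZ) (gs o)
  obtain ⟨-, -, hbO⟩ := stalk_facts qO o
  haveI : IsLocallyNoetherian Zs.toScheme := LocallyOfFiniteType.isLocallyNoetherian (Zs.ι ≫ qZ)
  have key := ringKrullDim_le_of_cotangent_span k (Y.presheaf.stalk (f (j o))) (X.presheaf.stalk (j o))
    (Zs.toScheme.presheaf.stalk (gs o)) (O.toScheme.presheaf.stalk o) (hbZ ‹_› hzcl) (hbO ‹_› hocl)
    (f.stalkMap (j o)).hom (j.stalkMap o).hom σ ψ hψm hσ (fun b => ?_) ?_ S hS (fun b hb => ?_)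
  · rw [hdim] at key
    exact_mod_cast key
  · have h2 := congrArg (fun m => m b) (stalkMap_congr_inv (gs ≫ l) (j ≫ f) hjl o he)
    simp only [Scheme.Hom.stalkMap_comp] at h2
    exact h2
  · intro u v huv
    refine hinj ?_
    obtain ⟨⟨a₁, h₁⟩, rfl⟩ := Ideal.toCotangent_surjective _ u
    obtain ⟨⟨a₂, h₂⟩, rfl⟩ := Ideal.toCotangent_surjective _ v
    rw [Ideal.mapCotangent_toCotangent, Ideal.mapCotangent_toCotangent] at huv
    refine (Ideal.mapCotangent_toCotangent ..).trans (Eq.trans ?_ (Ideal.mapCotangent_toCotangent ..).symm)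
    have e : ∀ t, FixPt.stalkMapAt gs o (gs.base o) rfl t = ψ t := fun t => by
      simp [FixPt.stalkMapAt, ψ]
    convert huv using 3 <;> exact e _
  · have hb' : b ∈ maximalIdeal (Y.presheaf.stalk (f (j o))) := (mem_maximalIdeal _).2 fun hu =>
      (mem_maximalIdeal _).1 hb (hu.map (f.stalkMap (j o)).hom)
    have h4 := hrk ⟨(maximalIdeal _).toCotangent ⟨b, hb'⟩, Ideal.mapCotangent_toCotangent ..⟩
    have e : FixPt.stalkMapAt f (j o) (f.base (j o)) rfl b = f.stalkMap (j o) b := by
      simp [FixPt.stalkMapAt]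
    have h5 : (⟨f.stalkMap (j o) b, hb⟩ : maximalIdeal (X.presheaf.stalk (j o))) =
        ⟨FixPt.stalkMapAt f (j o) (f.base (j o)) rfl b, e.symm ▸ hb⟩ := Subtype.ext e.symm
    rw [h5]
    exact h4

end Groth.Agent.GenSmoothLib
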