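import Mathlib

/-!
Generic smoothness, algebra form: a finite type extension of domains whose fraction field
extension is separably generated is smooth on a nonempty basic open.
-/

universe u v w

namespace Groth.Agent.GenSmoothLib

open Algebra

variable (A : Type u) (B : Type v) [CommRing A] [CommRing B] [IsDomain B] [Algebra A B]

/-- If `Frac B` is formally smooth over `Frac A`, then `B` is smooth over `A` at the generic point. -/
theorem isSmoothAt_bot (K L : Type*) [Field K] [Field L] [Algebra A K] [IsFractionRing A K]
    [Algebra B L] [IsFractionRing B L] [Algebra K L] [Algebra A L] [IsScalarTower A B L]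
    [IsScalarTower A K L] [FormallySmooth K L] : IsSmoothAt A (⊥ : Ideal B) := by
  have hM : (⊥ : Ideal B).primeCompl = nonZeroDivisors B := by
    ext x; simp [Ideal.mem_primeCompl_iff]
  have : IsLocalization.AtPrime L (⊥ : Ideal B) := by
    show IsLocalization (⊥ : Ideal B).primeCompl L
    rw [hM]; infer_instance
  have : FormallySmooth A K := .of_isLocalization (nonZeroDivisors A)
  have : FormallySmooth A L := .comp A K L
  exact .of_equiv ((IsLocalization.algEquiv (⊥ : Ideal B).primeCompl L
    (Localization.AtPrime (⊥ : Ideal B))).restrictScalars A)

variable [Algebra.FinitePresentation A B]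

/-- Generic smoothness: if `Frac B` is formally smooth over `Frac A`, then `B[1/g]` is smooth over
`A` for some `g ≠ 0`. -/
theorem exists_smooth_away (K L : Type*) [Field K] [Field L] [Algebra A K] [IsFractionRing A K]
    [Algebra B L] [IsFractionRing B L] [Algebra K L] [Algebra A L] [IsScalarTower A B L]
    [IsScalarTower A K L] [FormallySmooth K L] :
    ∃ g : B, g ≠ 0 ∧ Algebra.Smooth A (Localization.Away g) := by
  have := isSmoothAt_bot A B K L
  obtain ⟨g, hg, h⟩ := IsSmoothAt.exists_notMem_smooth A (⊥ : Ideal B)
  exact ⟨g, by simpa using hg, h⟩

end Groth.Agent.GenSmoothLib
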