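import Groth.Agent.Unram17Lib.KaehlerCriterion
import Groth.Agent.FlatMor12.GenericSmooth

/-!
Bertini for base point free linear systems in characteristic zero, algebra form.
-/

set_option autoImplicit false
set_option backward.isDefEq.respectTransparency.types false
universe u

open MvPolynomial TensorProduct

namespace Groth.Agent.GenSmoothLib

/-- An algebra smooth over a field of characteristic zero is smooth over a parameter ring
away from a nonzero parameter. -/
theorem exists_smooth_away_charZero (k : Type u) [Field k] [CharZero k] (P B : Type u) [CommRing P]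
    [IsDomain P] [CommRing B] [Algebra k P] [Algebra k B] [Algebra P B] [IsScalarTower k P B]
    [Algebra.FinitePresentation P B] [Algebra.Smooth k B] :
    ∃ p : P, p ≠ 0 ∧ Algebra.Smooth P (Localization.Away (algebraMap P B p)) := by
  have hgen : ∀ (q : Ideal B) [q.IsPrime], q.comap (algebraMap P B) = ⊥ → Algebra.IsSmoothAt P q := by
    intro q _ hq
    let L := Localization.AtPrime q
    have hunit : ∀ y : nonZeroDivisors P, IsUnit (algebraMap P L y) := fun y => by
      rw [IsScalarTower.algebraMap_apply P B L]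
      refine IsLocalization.map_units L (⟨algebraMap P B y, fun hy => ?_⟩ : q.primeCompl)
      have h2 : (y : P) ∈ q.comap (algebraMap P B) := hy
      rw [hq] at h2
      exact nonZeroDivisors.ne_zero y.2 h2
    letI : Algebra (FractionRing P) L :=
      RingHom.toAlgebra (IsLocalization.lift (M := nonZeroDivisors P) (S := FractionRing P) hunit)
    haveI : IsScalarTower P (FractionRing P) L := IsScalarTower.of_algebraMap_eq fun x =>
      (IsLocalization.lift_eq hunit x).symm
    haveI : CharZero (FractionRing P) :=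
      charZero_of_injective_algebraMap (algebraMap k (FractionRing P)).injective
    haveI : IsRegularLocalRing L := (Unram17Lib.regular_and_localDim_eq_finrank k q).1
    haveI : Algebra.EssFiniteType B L := .of_isLocalization _ q.primeCompl
    haveI : Algebra.EssFiniteType P L := .comp P B L
    haveI : Algebra.EssFiniteType (FractionRing P) L := .of_comp P (FractionRing P) L
    haveI : Algebra.FormallySmooth (FractionRing P) L :=
      FlatMor12.GenericSmooth.formallySmooth_of_regular_of_perfect (FractionRing P) L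
    haveI : Algebra.FormallySmooth P (FractionRing P) := .of_isLocalization (nonZeroDivisors P)
    exact Algebra.FormallySmooth.comp P (FractionRing P) L
  obtain ⟨J, hJ⟩ := (PrimeSpectrum.isClosed_iff_zeroLocus_ideal _).1
    (Algebra.isOpen_smoothLocus (R := P) (A := B)).isClosed_compl
  obtain ⟨p, hpJ, hp0⟩ : ∃ p, algebraMap P B p ∈ J ∧ p ≠ 0 := by
    by_contra h
    push Not at h
    have hdisj : Disjoint (J : Set B) ((nonZeroDivisors P).map (algebraMap P B) : Set B) := by
      rw [Set.disjoint_left]
      rintro _ hb ⟨x, hx, rfl⟩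
      exact nonZeroDivisors.ne_zero hx (h x hb)
    obtain ⟨q, hq, hJq, hqd⟩ := Ideal.exists_le_prime_disjoint J _ hdisj
    have hq0 : q.comap (algebraMap P B) = ⊥ := by
      refine le_bot_iff.1 fun x hx => ?_
      by_contra hx0
      exact Set.disjoint_left.1 hqd hx ⟨x, mem_nonZeroDivisors_of_ne_zero hx0, rfl⟩
    have : (⟨q, hq⟩ : PrimeSpectrum B) ∈ (Algebra.smoothLocus P B)ᶜ := by
      rw [hJ]; exact hJq
    exact this (hgen q hq0)
  refine ⟨p, hp0, Algebra.basicOpen_subset_smoothLocus_iff_smooth.1 fun y hy => ?_⟩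
  by_contra h
  have h' : y ∈ (Algebra.smoothLocus P B)ᶜ := h
  rw [hJ] at h'
  exact hy (h' hpJ)

variable {A : Type u} [CommRing A] {n : ℕ} (v : Fin n → A)

/-- The universal combination `∑ v_i X_i`. -/
noncomputable def univSum : MvPolynomial (Fin n) A := ∑ i, C (v i) * X i

/-- The universal zero locus of a unimodular family is smooth over the base. -/
theorem smooth_univSum (hv : Ideal.span (Set.range v) = ⊤) :
    Algebra.Smooth A (MvPolynomial (Fin n) A ⧸ Ideal.span {univSum v}) := by
  obtain ⟨w, hw⟩ := Ideal.mem_span_range_iff_exists_fun.1 (hv ▸ Submodule.mem_top : (1 : A) ∈ Ideal.span (Set.range v))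
  set ℓ := univSum v with hℓ
  let r : MvPolynomial (Fin n) A →ₐ[A] MvPolynomial (Fin n) A := aeval fun i => X i - C (w i) * ℓ
  have hr : r ℓ = 0 := by
    conv_lhs => rw [hℓ]; simp only [univSum]
    simp only [r, map_sum, map_mul, aeval_C, aeval_X, MvPolynomial.algebraMap_eq, mul_sub, ← mul_assoc]
    rw [Finset.sum_sub_distrib, ← Finset.sum_mul]
    have : ∑ i, C (v i) * C (w i) = (1 : MvPolynomial (Fin n) A) := by
      simp_rw [← map_mul, ← map_sum, mul_comm (v _), hw, map_one]
    rw [this, one_mul, hℓ, univSum, sub_self]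
  let f : MvPolynomial (Fin n) A →ₐ[A] MvPolynomial (Fin n) A ⧸ Ideal.span {ℓ} := Ideal.Quotient.mkₐ A _
  let g : (MvPolynomial (Fin n) A ⧸ Ideal.span {ℓ}) →ₐ[A] MvPolynomial (Fin n) A :=
    Ideal.Quotient.liftₐ _ r fun a ha => by
      obtain ⟨b, rfl⟩ := Ideal.mem_span_singleton'.1 ha
      rw [map_mul, hr, mul_zero]
  have hfg : f.comp g = AlgHom.id A _ := by
    refine Ideal.Quotient.algHom_ext A (MvPolynomial.algHom_ext fun i => ?_)
    show Ideal.Quotient.mk _ (r (X i)) = Ideal.Quotient.mk _ (X i)
    simp only [r, aeval_X, map_sub, map_mul, Ideal.Quotient.eq_zero_iff_mem.2 (Ideal.mem_span_singleton_self ℓ),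
      mul_zero, sub_zero]
  refine ⟨?_, ?_⟩
  · refine Algebra.FormallySmooth.of_split f ((Ideal.Quotient.mkₐ A _).comp g) ?_
    refine AlgHom.ext fun b => ?_
    exact congr($hfg b)
  · exact Algebra.FinitePresentation.quotient ⟨{ℓ}, by simp⟩

section Specialise

variable (k : Type u) [Field k] [Algebra k A]
variable (B : Type u) [CommRing B] [Algebra k B] [Algebra A B] [IsScalarTower k A B]
  [Algebra (MvPolynomial (Fin n) k) B] [IsScalarTower k (MvPolynomial (Fin n) k) B]

/-- Specialising the universal zero locus at parameters where it is smooth. -/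
theorem smooth_specialise (π : MvPolynomial (Fin n) A →ₐ[A] B) (hπ : Function.Surjective π)
    (hker : RingHom.ker π = Ideal.span {univSum v})
    (hX : ∀ i, algebraMap (MvPolynomial (Fin n) k) B (X i) = π (X i))
    (p : MvPolynomial (Fin n) k) (Bp : Type u) [CommRing Bp] [Algebra B Bp]
    [IsLocalization.Away (algebraMap (MvPolynomial (Fin n) k) B p) Bp]
    [Algebra (MvPolynomial (Fin n) k) Bp] [IsScalarTower (MvPolynomial (Fin n) k) B Bp]
    [Algebra.Smooth (MvPolynomial (Fin n) k) Bp] (c : Fin n → k) (hc : eval c p ≠ 0) :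
    Algebra.Smooth k (A ⧸ Ideal.span {∑ i, algebraMap k A (c i) * v i}) := by
  letI algk : Algebra (MvPolynomial (Fin n) k) k := (eval c).toAlgebra
  haveI : IsScalarTower k (MvPolynomial (Fin n) k) k := IsScalarTower.of_algebraMap_eq fun x => by
    show x = eval c (C x)
    simp
  let I : Ideal A := Ideal.span {∑ i, algebraMap k A (c i) * v i}
  let ev : MvPolynomial (Fin n) A →ₐ[A] (A ⧸ I) := aeval fun i => algebraMap k (A ⧸ I) (c i)
  have hev : ev (univSum v) = 0 := by
    have : ev (univSum v) = Ideal.Quotient.mk I (∑ i, algebraMap k A (c i) * v i) := by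
      simp only [univSum, map_sum, map_mul, ev, aeval_C, aeval_X]
      refine Finset.sum_congr rfl fun i _ => ?_
      rw [mul_comm]
      rfl
    rw [this]
    exact Ideal.Quotient.eq_zero_iff_mem.2 (Ideal.mem_span_singleton_self _)
  let evB₀ : B →ₐ[A] (A ⧸ I) := AlgHom.liftOfSurjective π hπ ev (by
    intro a ha
    have ha' : a ∈ RingHom.ker π := ha
    rw [hker, Ideal.mem_span_singleton'] at ha'
    obtain ⟨b, rfl⟩ := ha'
    show ev (b * univSum v) = 0
    rw [map_mul, hev, mul_zero])
  have hevB : ∀ y, evB₀ (π y) = ev y := fun y => AlgHom.liftOfSurjective_apply _ _ _ _ y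
  have hevP : ∀ x : MvPolynomial (Fin n) k,
      evB₀ (algebraMap (MvPolynomial (Fin n) k) B x) = algebraMap k (A ⧸ I) (eval c x) := by
    have hh : evB₀.toRingHom.comp (algebraMap (MvPolynomial (Fin n) k) B) =
        (algebraMap k (A ⧸ I)).comp (eval c) := by
      refine MvPolynomial.ringHom_ext (fun r => ?_) fun i => ?_
      · show evB₀ (algebraMap _ B (algebraMap k (MvPolynomial (Fin n) k) r)) = algebraMap k (A ⧸ I) (eval c (C r))
        rw [← IsScalarTower.algebraMap_apply, IsScalarTower.algebraMap_apply k A B, AlgHom.commutes, eval_C]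
        rfl
      · show evB₀ (algebraMap _ B (X i)) = algebraMap k (A ⧸ I) (eval c (X i))
        rw [hX, hevB, eval_X]
        simp [ev]
    exact fun x => congr($hh x)
  letI : Algebra (MvPolynomial (Fin n) k) (A ⧸ I) := ((algebraMap k (A ⧸ I)).comp (eval c)).toAlgebra
  haveI : IsScalarTower (MvPolynomial (Fin n) k) k (A ⧸ I) := IsScalarTower.of_algebraMap_eq fun _ => rfl
  let evP : B →ₐ[MvPolynomial (Fin n) k] (A ⧸ I) := { evB₀.toRingHom with commutes' := hevP }
  have hu : IsUnit (evP (algebraMap (MvPolynomial (Fin n) k) B p)) := by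
    show IsUnit (evB₀ (algebraMap (MvPolynomial (Fin n) k) B p))
    rw [hevP]
    exact (Ne.isUnit hc).map _
  have hu' : ∀ g : Submonoid.powers (algebraMap (MvPolynomial (Fin n) k) B p), IsUnit (evP g) := by
    rintro ⟨_, m, rfl⟩
    show IsUnit (evP (_ ^ m))
    rw [map_pow]
    exact hu.pow m
  let evL : Bp →ₐ[MvPolynomial (Fin n) k] (A ⧸ I) :=
    IsLocalization.liftAlgHom (M := Submonoid.powers (algebraMap (MvPolynomial (Fin n) k) B p)) hu'
  have hevL : ∀ y, evL (algebraMap B Bp y) = evB₀ y := fun y => by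
    simp only [evL, IsLocalization.coe_liftAlgHom]
    exact IsLocalization.lift_eq _ y
  let π' : k ⊗[MvPolynomial (Fin n) k] Bp →ₐ[k] (A ⧸ I) :=
    Algebra.TensorProduct.lift (Algebra.ofId k (A ⧸ I)) evL fun _ _ => Commute.all _ _
  have key : ∀ x : MvPolynomial (Fin n) k,
      (1 : k) ⊗ₜ[MvPolynomial (Fin n) k] algebraMap B Bp (algebraMap (MvPolynomial (Fin n) k) B x) =
        algebraMap k (k ⊗[MvPolynomial (Fin n) k] Bp) (eval c x) := fun x => by
    rw [← IsScalarTower.algebraMap_apply, Algebra.algebraMap_eq_smul_one, ← smul_tmul,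
      Algebra.smul_def, mul_one]
    rfl
  let u₀ : A →+* k ⊗[MvPolynomial (Fin n) k] Bp :=
    (Algebra.TensorProduct.includeRight : Bp →ₐ[MvPolynomial (Fin n) k] _).toRingHom.comp
      ((algebraMap B Bp).comp (algebraMap A B))
  have hu₀ : ∀ x : k, u₀ (algebraMap k A x) = algebraMap k _ x := fun x => by
    have := key (C x)
    have e : algebraMap (MvPolynomial (Fin n) k) B (C x) = algebraMap A B (algebraMap k A x) :=
      ((IsScalarTower.algebraMap_apply k (MvPolynomial (Fin n) k) B x).symm).trans
        (IsScalarTower.algebraMap_apply k A B x)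
    rw [eval_C, e] at this
    exact this
  let u : A →ₐ[k] k ⊗[MvPolynomial (Fin n) k] Bp := { u₀ with commutes' := hu₀ }
  have hu_v : u (∑ i, algebraMap k A (c i) * v i) = 0 := by
    have h2 : (1 : k) ⊗ₜ[MvPolynomial (Fin n) k] algebraMap B Bp (π (univSum v)) = 0 := by
      have : univSum v ∈ RingHom.ker π := hker.ge (Ideal.mem_span_singleton_self _)
      rw [RingHom.mem_ker] at this
      rw [this, map_zero, tmul_zero]
    refine Eq.trans ?_ h2
    rw [show (1 : k) ⊗ₜ[MvPolynomial (Fin n) k] algebraMap B Bp (π (univSum v)) =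
      (Algebra.TensorProduct.includeRight : Bp →ₐ[MvPolynomial (Fin n) k] _) (algebraMap B Bp (π (univSum v))) from rfl,
      univSum]
    simp only [map_sum, map_mul, AlgHom.commutes]
    refine Finset.sum_congr rfl fun i _ => ?_
    rw [mul_comm]
    congr 1
    · rw [show (C (v i) : MvPolynomial (Fin n) A) = algebraMap A _ (v i) from rfl, AlgHom.commutes]
      rfl
    · rw [← hX]
      exact ((key (X i)).trans (by rw [eval_X])).symm
  let ι : (A ⧸ I) →ₐ[k] k ⊗[MvPolynomial (Fin n) k] Bp := Ideal.Quotient.liftₐ _ u fun a ha => by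
    obtain ⟨b, rfl⟩ := Ideal.mem_span_singleton'.1 ha
    rw [map_mul, hu_v, mul_zero]
  have h₁ : π'.comp ι = AlgHom.id k (A ⧸ I) := by
    refine Ideal.Quotient.algHom_ext k (AlgHom.ext fun a => ?_)
    show algebraMap k (A ⧸ I) 1 * evL (algebraMap B Bp (algebraMap A B a)) = Ideal.Quotient.mk _ a
    rw [map_one, one_mul, hevL, AlgHom.commutes]
    rfl
  have h₂ : ι.comp π' = AlgHom.id k _ := by
    refine Algebra.TensorProduct.ext (by ext) ?_
    refine IsLocalization.algHom_ext (Submonoid.powers (algebraMap (MvPolynomial (Fin n) k) B p)) ?_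
    refine AlgHom.ext fun b => ?_
    obtain ⟨y, rfl⟩ := hπ b
    show ι (algebraMap k (A ⧸ I) 1 * evL (algebraMap B Bp (π y))) =
      (1 : k) ⊗ₜ[MvPolynomial (Fin n) k] algebraMap B Bp (π y)
    rw [map_one, one_mul, hevL, hevB]
    induction y using MvPolynomial.induction_on with
    | C a =>
      rw [show (C a : MvPolynomial (Fin n) A) = algebraMap A _ a from rfl, AlgHom.commutes, AlgHom.commutes]
      rfl
    | add y z hy hz => simp only [map_add, tmul_add, hy, hz]
    | mul_X y i hy =>
      rw [map_mul, map_mul, map_mul, map_mul, hy, show ev (X i) = algebraMap k (A ⧸ I) (c i) from aeval_X _ i,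
        AlgHom.commutes, ← hX,
        show algebraMap k (k ⊗[MvPolynomial (Fin n) k] Bp) (c i) = _ from
          ((key (X i)).trans (by rw [eval_X])).symm, Algebra.TensorProduct.tmul_mul_tmul, one_mul]
  exact Algebra.Smooth.of_equiv (AlgEquiv.ofAlgHom π' ι h₁ h₂)

end Specialise

/-- In characteristic zero a general member of a base point free family is smooth. -/
theorem exists_poly_smooth_of_span_eq_top {k : Type u} [Field k] [CharZero k] [Algebra k A]
    [Algebra.Smooth k A] (hv : Ideal.span (Set.range v) = ⊤) :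
    ∃ p : MvPolynomial (Fin n) k, p ≠ 0 ∧ ∀ c : Fin n → k, eval c p ≠ 0 →
      Algebra.Smooth k (A ⧸ Ideal.span {∑ i, algebraMap k A (c i) * v i}) := by
  haveI := smooth_univSum v hv
  haveI : Algebra.Smooth k (MvPolynomial (Fin n) A ⧸ Ideal.span {univSum v}) := Algebra.Smooth.comp k A _
  let φ : MvPolynomial (Fin n) k →ₐ[k] MvPolynomial (Fin n) A ⧸ Ideal.span {univSum v} :=
    ((Ideal.Quotient.mkₐ A _).restrictScalars k).comp (aeval fun i => (X i : MvPolynomial (Fin n) A))
  letI := φ.toRingHom.toAlgebra
  haveI : IsScalarTower k (MvPolynomial (Fin n) k) (MvPolynomial (Fin n) A ⧸ Ideal.span {univSum v}) :=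
    IsScalarTower.of_algebraMap_eq fun x => (φ.commutes x).symm
  haveI : Algebra.FiniteType (MvPolynomial (Fin n) k) (MvPolynomial (Fin n) A ⧸ Ideal.span {univSum v}) :=
    Algebra.FiniteType.of_restrictScalars_finiteType k _ _
  haveI : Algebra.FinitePresentation (MvPolynomial (Fin n) k) (MvPolynomial (Fin n) A ⧸ Ideal.span {univSum v}) :=
    Algebra.FinitePresentation.of_finiteType.1 inferInstance
  obtain ⟨p, hp, hsm⟩ := exists_smooth_away_charZero k (MvPolynomial (Fin n) k)
    (MvPolynomial (Fin n) A ⧸ Ideal.span {univSum v})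
  refine ⟨p, hp, fun c hc => ?_⟩
  haveI := hsm
  exact smooth_specialise v k (MvPolynomial (Fin n) A ⧸ Ideal.span {univSum v}) (Ideal.Quotient.mkₐ A _)
    Ideal.Quotient.mk_surjective (Ideal.Quotient.mkₐ_ker A _)
    (fun i => by
      show φ (X i) = _
      simp [φ])
    p (Localization.Away (algebraMap (MvPolynomial (Fin n) k)
      (MvPolynomial (Fin n) A ⧸ Ideal.span {univSum v}) p)) c hc

end Groth.Agent.GenSmoothLib
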