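import Mathlib

/-!
Smoothness of a local homomorphism at rational points through the cotangent map.
-/

set_option autoImplicit false
set_option backward.isDefEq.respectTransparency.types false
universe u

open IsLocalRing TensorProduct KaehlerDifferential

namespace Groth.Agent.GenSmoothLib

variable (k : Type u) [Field k]

/-- At a rational point an element of `m` with vanishing differential in the fibre lies in `m²`. -/
theorem mem_sq_of_tmul_D_eq_zero (B : Type u) [CommRing B] [Algebra k B] [IsLocalRing B]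
    (hres : Function.Bijective (algebraMap k (ResidueField B))) (b : B) (hb : b ∈ maximalIdeal B)
    (h : (1 : ResidueField B) ⊗ₜ[B] D k B b = 0) : b ∈ maximalIdeal B ^ 2 := by
  let κ := ResidueField B
  let e0 : k ≃ₐ[k] κ := AlgEquiv.ofBijective (Algebra.ofId k κ) hres
  let sec : κ →ₐ[k] B ⧸ RingHom.ker (algebraMap B κ) ^ 2 := (Algebra.ofId k _).comp e0.symm.toAlgHom
  obtain ⟨⟨l, hl⟩, -⟩ : ∃ x, (retractionKerCotangentToTensorEquivSection (R := k) (P := B) (S := κ) residue_surjective).symm
      ⟨sec, AlgHom.ext fun z => by obtain ⟨c, rfl⟩ := hres.2 z; exact ((IsScalarTower.toAlgHom k B κ).kerSquareLift.comp sec).commutes c⟩ = x := ⟨_, rfl⟩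
  have hinj : Function.Injective (KaehlerDifferential.kerCotangentToTensor k B κ) :=
    Function.LeftInverse.injective (g := l) (LinearMap.congr_fun hl)
  have hb' : b ∈ RingHom.ker (algebraMap B κ) := ker_residue (R := B) ▸ hb
  have h0 : (RingHom.ker (algebraMap B κ)).toCotangent ⟨b, hb'⟩ = 0 := hinj (by
    rw [kerCotangentToTensor_toCotangent, map_zero]; exact h)
  rw [Ideal.toCotangent_eq_zero] at h0
  simpa [ker_residue, κ] using h0

variable (A B : Type u) [CommRing A] [CommRing B] [Algebra k A] [Algebra k B] [Algebra A B]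
  [IsScalarTower k A B] [IsLocalRing A] [IsLocalRing B] [IsLocalHom (algebraMap A B)]
  [Algebra.EssFiniteType k A] [Algebra.EssFiniteType k B]
  [Algebra.FormallySmooth k A] [Algebra.FormallySmooth k B]

/-- A homomorphism of smooth local algebras with injective cotangent map at rational points is
formally smooth. -/
theorem formallySmooth_of_cotangent_injective (hA : Function.Bijective (algebraMap k (ResidueField A)))
    (hB : Function.Bijective (algebraMap k (ResidueField B)))
    (hinj : ∀ a ∈ maximalIdeal A, algebraMap A B a ∈ maximalIdeal B ^ 2 → a ∈ maximalIdeal A ^ 2) :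
    Algebra.FormallySmooth A B := by
  haveI : Module.Free A Ω[A⁄k] := Module.free_of_flat_of_isLocalRing
  haveI : Module.Free B Ω[B⁄k] := Module.free_of_flat_of_isLocalRing
  let T : B ⊗[A] Ω[A⁄k] →ₗ[B] Ω[B⁄k] := mapBaseChange k A B
  have hm : ∀ a ∈ maximalIdeal A, ∀ ω : Ω[A⁄k],
      (1 : ResidueField B) ⊗ₜ[B] ((1 : B) ⊗ₜ[A] (a • ω)) = 0 := by
    intro a ha ω
    rw [tmul_smul, ← algebraMap_smul B a ((1 : B) ⊗ₜ[A] ω), ← smul_tmul, Algebra.smul_def, mul_one]
    have : algebraMap B (ResidueField B) (algebraMap A B a) = 0 :=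
      (residue_eq_zero_iff _).2 ((mem_maximalIdeal _).2 fun hu => (mem_maximalIdeal _).1 ha
        (IsUnit.of_map (algebraMap A B) a hu))
    rw [this, zero_tmul]
  let S : Set (ResidueField B ⊗[B] (B ⊗[A] Ω[A⁄k])) :=
    {z | ∃ a ∈ maximalIdeal A, z = 1 ⊗ₜ (1 ⊗ₜ D k A a)}
  have hadd : ∀ z₁ ∈ S, ∀ z₂ ∈ S, z₁ + z₂ ∈ S := by
    rintro _ ⟨a₁, h₁, rfl⟩ _ ⟨a₂, h₂, rfl⟩
    exact ⟨a₁ + a₂, add_mem h₁ h₂, by rw [map_add, tmul_add, tmul_add]⟩
  have hΩ : ∀ ω : Ω[A⁄k], (1 : ResidueField B) ⊗ₜ[B] ((1 : B) ⊗ₜ[A] ω) ∈ S := by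
    intro ω
    have hω : ω ∈ Submodule.span A (Set.range (D k A)) := by
      rw [KaehlerDifferential.span_range_derivation]; trivial
    induction hω using Submodule.span_induction with
    | mem y hy =>
      obtain ⟨a, rfl⟩ := hy
      obtain ⟨c, hc⟩ := hA.2 (residue A a)
      refine ⟨a - algebraMap k A c, ?_, by rw [map_sub, Derivation.map_algebraMap, sub_zero]⟩
      rw [← residue_eq_zero_iff, map_sub, sub_eq_zero]
      exact hc.symm.trans (IsScalarTower.algebraMap_apply k A (ResidueField A) c)
    | zero => exact ⟨0, zero_mem _, by simp⟩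
    | add y z _ _ hy hz => rw [tmul_add, tmul_add]; exact hadd _ hy _ hz
    | smul a y _ hy =>
      obtain ⟨c, hc⟩ := hA.2 (residue A a)
      have ha : a - algebraMap k A c ∈ maximalIdeal A := by
        rw [← residue_eq_zero_iff, map_sub, sub_eq_zero]
        exact hc.symm.trans (IsScalarTower.algebraMap_apply k A (ResidueField A) c)
      obtain ⟨d, hd, he⟩ := hy
      refine ⟨algebraMap k A c * d, Ideal.mul_mem_left _ _ hd, ?_⟩
      conv_lhs => rw [← sub_add_cancel a (algebraMap k A c), add_smul, tmul_add, tmul_add, hm _ ha, zero_add]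
      rw [Derivation.leibniz, Derivation.map_algebraMap, smul_zero, add_zero]
      simp only [tmul_smul, ← algebraMap_smul B (algebraMap k A c)]
      rw [he]
  have hall : ∀ z : ResidueField B ⊗[B] (B ⊗[A] Ω[A⁄k]), z ∈ S := by
    intro z
    induction z using TensorProduct.induction_on with
    | zero => exact ⟨0, zero_mem _, by simp⟩
    | add x y hx hy => exact hadd _ hx _ hy
    | tmul r w =>
      induction w using TensorProduct.induction_on with
      | zero => exact ⟨0, zero_mem _, by simp⟩
      | add x y hx hy => rw [tmul_add]; exact hadd _ hx _ hy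
      | tmul b ω =>
        obtain ⟨c, hc⟩ := hB.2 (r * residue B b)
        have e : r ⊗ₜ[B] (b ⊗ₜ[A] ω) = (1 : ResidueField B) ⊗ₜ[B] ((1 : B) ⊗ₜ[A] (algebraMap k A c • ω)) := by
          rw [tmul_smul, ← algebraMap_smul B (algebraMap k A c) ((1 : B) ⊗ₜ[A] ω), ← smul_tmul,
            ← IsScalarTower.algebraMap_apply k A B, Algebra.smul_def, mul_one,
            ← IsScalarTower.algebraMap_apply k B (ResidueField B), hc]
          conv_lhs => rw [show b ⊗ₜ[A] ω = b • ((1 : B) ⊗ₜ[A] ω) from by
            rw [smul_tmul', smul_eq_mul, mul_one], ← smul_tmul, Algebra.smul_def, mul_comm]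
          rfl
        rw [e]
        exact hΩ _
  have hTinj : Function.Injective (T.lTensor (ResidueField B)) := by
    rw [injective_iff_map_eq_zero]
    intro z hz
    obtain ⟨a, ha, rfl⟩ := hall z
    have hb : algebraMap A B a ∈ maximalIdeal B := (mem_maximalIdeal _).2 fun hu =>
      (mem_maximalIdeal _).1 ha (IsUnit.of_map (algebraMap A B) a hu)
    have h2 := hinj a ha (mem_sq_of_tmul_D_eq_zero k B hB _ hb (by
      simpa [T, mapBaseChange_tmul] using hz))
    rw [sq] at h2
    clear hz hb ha
    induction h2 using Submodule.mul_induction_on' with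
    | mem_mul_mem x hx y hy =>
      rw [Derivation.leibniz, tmul_add, tmul_add, hm x hx, hm y hy, add_zero]
    | add x _ y _ hx hy => rw [map_add, tmul_add, tmul_add, hx, hy, add_zero]
  obtain ⟨l, hl⟩ := (IsLocalRing.split_injective_iff_lTensor_residueField_injective T).2 hTinj
  have hT : Function.Injective T := Function.LeftInverse.injective (g := l) (LinearMap.congr_fun hl)
  rw [Algebra.formallySmooth_iff]
  refine ⟨?_, ⟨fun x y => ?_⟩⟩
  · obtain ⟨e, -, he⟩ := (exact_mapBaseChange_map k A B).splitInjectiveEquiv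
      (KaehlerDifferential.map_surjective k A B) ⟨l, hl⟩
    let s : Ω[B⁄A] →ₗ[B] Ω[B⁄k] := e.symm.toLinearMap ∘ₗ LinearMap.inr B _ _
    have hs : (KaehlerDifferential.map k A B B) ∘ₗ s = LinearMap.id := by
      rw [he]
      ext x
      simp [s]
    exact Module.Projective.of_split s (KaehlerDifferential.map k A B B) hs
  · suffices ∀ z : Algebra.H1Cotangent A B, z = 0 by rw [this x, this y]
    intro z
    have h1 : Algebra.H1Cotangent.δ k A B z = 0 := hT (by
      rw [map_zero]; exact (Algebra.H1Cotangent.exact_δ_mapBaseChange k A B).apply_apply_eq_zero z)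
    obtain ⟨w, rfl⟩ := (Algebra.H1Cotangent.exact_map_δ k A B z).1 h1
    rw [Subsingleton.elim w 0, map_zero]

end Groth.Agent.GenSmoothLib
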