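import Groth.Agent.Unram17Lib.LocalDim
import Groth.Agent.DimLib.Algebra
import Mathlib

/-!
The fibre of the relative differentials bounds the dimension of subvarieties of a fibre.
-/

set_option autoImplicit false
set_option backward.isDefEq.respectTransparency.types false
universe u

open IsLocalRing KaehlerDifferential

namespace Groth.Agent.GenSmoothLib

variable {k : Type u} [Field k]

/-- The derivation to the cotangent space at a rational point of a quotient. -/
theorem finrank_cotangent_le (R B C : Type u) [CommRing R] [CommRing B] [CommRing C]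
    [IsLocalRing B] [IsLocalRing C] [IsNoetherianRing C]
    [Algebra R B] [Algebra k B] (g : B →+* C) (hg : Function.Surjective g)
    (hB : Function.Bijective (algebraMap k (ResidueField B)))
    (hR : ∀ r : R, ∃ c : k, g (algebraMap R B r) = g (algebraMap k B c))
    [Module.Finite B Ω[B⁄R]] {n : ℕ} (hn : ringKrullDim C = (n : WithBot ℕ∞)) :
    n ≤ Module.finrank k (Ω[B⁄R] ⧸ (maximalIdeal B • (⊤ : Submodule B Ω[B⁄R]))) := by
  haveI : IsLocalHom g := .of_surjective _ hg
  letI : Algebra k C := (g.comp (algebraMap k B)).toAlgebra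
  letI : Algebra B C := g.toAlgebra
  haveI : IsScalarTower k B C := IsScalarTower.of_algebraMap_eq' rfl
  choose c hc using fun b : B => hB.2 (residue B b)
  have hmem : ∀ b, b - algebraMap k B (c b) ∈ maximalIdeal B := fun b => by
    rw [← residue_eq_zero_iff, map_sub, sub_eq_zero, ← hc b]
    exact IsScalarTower.algebraMap_apply k B (ResidueField B) (c b)
  have hgm : ∀ b ∈ maximalIdeal B, g b ∈ maximalIdeal C := fun b hb =>
    (mem_maximalIdeal _).2 fun hu => (mem_maximalIdeal _).1 hb (IsUnit.of_map g b hu)
  let σ : B → maximalIdeal C := fun b => ⟨g (b - algebraMap k B (c b)), hgm _ (hmem b)⟩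
  have huniq : ∀ (b : B) (a : k), b - algebraMap k B a ∈ maximalIdeal B → c b = a := fun b a h => by
    refine hB.1 ?_
    rw [hc b, IsScalarTower.algebraMap_apply k B (ResidueField B) a, ResidueField.algebraMap_eq,
      ← sub_eq_zero, ← map_sub, residue_eq_zero_iff]
    exact h
  have cadd : ∀ b b', c (b + b') = c b + c b' := fun b b' => huniq _ _ (by
    rw [map_add, add_sub_add_comm]; exact add_mem (hmem b) (hmem b'))
  have cmul : ∀ b b', c (b * b') = c b * c b' := fun b b' => huniq _ _ (by
    rw [map_mul, show b * b' - algebraMap k B (c b) * algebraMap k B (c b') =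
      (b - algebraMap k B (c b)) * b' + algebraMap k B (c b) * (b' - algebraMap k B (c b')) by ring]
    exact add_mem (Ideal.mul_mem_right _ _ (hmem b)) (Ideal.mul_mem_left _ _ (hmem b')))
  let δ : B →+ CotangentSpace C := AddMonoidHom.mk' (fun b => (maximalIdeal C).toCotangent (σ b)) fun b b' => by
    rw [← map_add]
    congr 1
    ext
    simp only [σ, Submodule.coe_add, cadd, map_add, map_sub]
    abel
  have hsmul : ∀ (b : B) (v : CotangentSpace C), g b • v = g (algebraMap k B (c b)) • v := fun b v => by
    obtain ⟨w, rfl⟩ := (maximalIdeal C).toCotangent_surjective v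
    rw [← map_smul, ← map_smul, Ideal.toCotangent_eq]
    show g b * (w : C) - g (algebraMap k B (c b)) * (w : C) ∈ maximalIdeal C ^ 2
    rw [← sub_mul, ← map_sub, sq]
    exact Ideal.mul_mem_mul (hgm _ (hmem b)) w.2
  letI : Algebra R C := (g.comp (algebraMap R B)).toAlgebra
  haveI : IsScalarTower R B C := IsScalarTower.of_algebraMap_eq' rfl
  have hBC : ∀ (b : B) (v : CotangentSpace C), b • v = g b • v := fun b v => by
    obtain ⟨w, rfl⟩ := (maximalIdeal C).toCotangent_surjective v
    rfl
  have hleib : ∀ b b', δ (b * b') = b • δ b' + b' • δ b := fun b b' => by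
    rw [hBC, hBC, hsmul b, hsmul b']
    simp only [δ, AddMonoidHom.mk'_apply, ← map_smul, ← map_add, Ideal.toCotangent_eq, σ, Submodule.coe_add,
      Submodule.coe_smul, smul_eq_mul, cmul, map_mul, map_sub]
    rw [show g b * g b' - g (algebraMap k B (c b)) * g (algebraMap k B (c b')) -
        (g (algebraMap k B (c b)) * (g b' - g (algebraMap k B (c b'))) +
          g (algebraMap k B (c b')) * (g b - g (algebraMap k B (c b)))) =
        (g b - g (algebraMap k B (c b))) * (g b' - g (algebraMap k B (c b'))) by ring, sq]
    refine Ideal.mul_mem_mul ?_ ?_ <;> rw [← map_sub] <;> exact hgm _ (hmem _)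
  have hconst : ∀ r : R, δ (algebraMap R B r) = 0 := fun r => by
    obtain ⟨a, ha⟩ := hR r
    have h1 : c (algebraMap R B r) = a := huniq _ _ ((mem_maximalIdeal _).2 fun hu => by
      have h2 := hu.map g
      rw [map_sub, ha, sub_self] at h2
      exact not_isUnit_zero h2)
    show (maximalIdeal C).toCotangent (σ (algebraMap R B r)) = 0
    convert map_zero (maximalIdeal C).toCotangent
    ext
    show g (algebraMap R B r - algebraMap k B (c (algebraMap R B r))) = 0
    rw [h1, map_sub, ha, sub_self]
  let D' : Derivation R B (CotangentSpace C) := Derivation.mk'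
    { toFun := δ, map_add' := map_add δ, map_smul' := fun r b => by
        show δ (r • b) = r • δ b
        rw [Algebra.smul_def, hleib, hconst, smul_zero, add_zero, algebraMap_smul] } hleib
  let L : Ω[B⁄R] →ₗ[B] CotangentSpace C := D'.liftKaehlerDifferential
  let N := maximalIdeal B • (⊤ : Submodule B Ω[B⁄R])
  have hN : N ≤ LinearMap.ker L := Submodule.smul_le.2 fun b hb ω _ => by
    rw [LinearMap.mem_ker, map_smul]
    rw [hBC, hsmul, huniq b 0 (by simpa using hb), map_zero, map_zero, zero_smul]
  let Lq : (Ω[B⁄R] ⧸ N) →ₗ[B] CotangentSpace C := N.liftQ L hN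
  haveI : Module.Finite k (Ω[B⁄R] ⧸ N) := by
    obtain ⟨s, hs⟩ := (Module.Finite.fg_top : (⊤ : Submodule B (Ω[B⁄R] ⧸ N)).FG)
    refine ⟨⟨s, ?_⟩⟩
    refine top_le_iff.1 fun z _ => ?_
    have hz : z ∈ Submodule.span B (s : Set (Ω[B⁄R] ⧸ N)) := hs.symm ▸ trivial
    induction hz using Submodule.span_induction with
    | mem y hy => exact Submodule.subset_span hy
    | zero => exact zero_mem _
    | add y z _ _ hy hz => exact add_mem (hy trivial) (hz trivial)
    | smul b y _ hy =>
      have h0 : (b - algebraMap k B (c b)) • y = 0 := by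
        obtain ⟨ω, rfl⟩ := N.mkQ_surjective y
        rw [← map_smul, Submodule.mkQ_apply, Submodule.Quotient.mk_eq_zero]
        exact Submodule.smul_mem_smul (hmem b) trivial
      rw [sub_smul, sub_eq_zero] at h0
      rw [h0, algebraMap_smul]
      exact Submodule.smul_mem _ _ (hy trivial)
  have hsurj : Function.Surjective (Lq.restrictScalars k) := fun v => by
    obtain ⟨⟨w, hw⟩, rfl⟩ := (maximalIdeal C).toCotangent_surjective v
    obtain ⟨b, rfl⟩ := hg w
    refine ⟨N.mkQ (D R B b), ?_⟩
    show L (D R B b) = _
    rw [show L (D R B b) = δ b from D'.liftKaehlerDifferential_comp_D b]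
    show (maximalIdeal C).toCotangent (σ b) = _
    have hb : b ∈ maximalIdeal B := (mem_maximalIdeal _).2 fun hu => (mem_maximalIdeal _).1 hw (hu.map g)
    congr 1
    ext
    show g (b - algebraMap k B (c b)) = g b
    rw [huniq b 0 (by simpa using hb), map_zero, sub_zero]
  have hC : Function.Bijective (algebraMap k (ResidueField C)) := ⟨RingHom.injective _, fun z => by
    obtain ⟨w, rfl⟩ := residue_surjective z
    obtain ⟨b, rfl⟩ := hg w
    refine ⟨c b, ?_⟩
    rw [IsScalarTower.algebraMap_apply k C (ResidueField C), ResidueField.algebraMap_eq, eq_comm,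
      ← sub_eq_zero, ← map_sub, residue_eq_zero_iff]
    show g b - g (algebraMap k B (c b)) ∈ _
    rw [← map_sub]
    exact hgm _ (hmem b)⟩
  have h1 := (Lq.restrictScalars k).finrank_le_finrank_of_surjective hsurj
  haveI : IsScalarTower k (ResidueField C) (CotangentSpace C) := IsScalarTower.of_algebraMap_smul fun a v => by
    obtain ⟨w, rfl⟩ := (maximalIdeal C).toCotangent_surjective v
    rfl
  have h2 : Module.finrank k (CotangentSpace C) = Module.finrank (ResidueField C) (CotangentSpace C) := by
    rw [← Module.finrank_mul_finrank k (ResidueField C) (CotangentSpace C),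
      show Module.finrank k (ResidueField C) = 1 from
        (LinearEquiv.ofBijective (Algebra.linearMap k (ResidueField C)) hC).finrank_eq.symm.trans
          (Module.finrank_self k), one_mul]
  have h3 := ringKrullDim_le_spanFinrank_maximalIdeal C
  rw [hn, IsLocalRing.spanFinrank_maximalIdeal_eq_finrank_cotangentSpace] at h3
  have h4 : n ≤ Module.finrank (ResidueField C) (CotangentSpace C) := by exact_mod_cast h3
  exact h4.trans (h2.symm.trans_le h1)

end Groth.Agent.GenSmoothLib
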