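import Groth.Agent.SGA3cLib.ActionPoints
import Groth.Agent.HopfLib.SchemeCartier
import Groth.Agent.FlatMor12.GenericSmooth
import Groth.Agent.VarietyLib.SmoothStalk
import Groth.Agent.GenSmoothLib.CharZero
import Mathlib.AlgebraicGeometry.AlgClosed.Basic

/-!
Generic smoothness and homogeneous spaces in characteristic zero.
-/

set_option autoImplicit false
set_option backward.isDefEq.respectTransparency.types false
universe u

open CategoryTheory Limits AlgebraicGeometry MonoidalCategory CartesianMonoidalCategory MonObj GrpObj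
open Groth.Agent.SGA3cLib

namespace Groth.Agent.GenSmoothLib

theorem smoothLocus_comp_iso {X Y Z : Scheme.{u}} (f : X ⟶ Y) (e : Y ⟶ Z) [IsIso e]
    [LocallyOfFinitePresentation f] : (f ≫ e).smoothLocus = f.smoothLocus := by
  ext x
  refine Iff.trans ?_ (RingHom.FormallySmooth.respectsIso.cancel_left_isIso (e.stalkMap (f x)) (f.stalkMap x))
  rw [← CommRingCat.hom_comp, ← Scheme.Hom.stalkMap_comp]
  rfl

theorem preimage_le_smoothLocus {X Y : Scheme.{u}} (f : X ⟶ Y) [LocallyOfFinitePresentation f]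
    (V : Y.Opens) [Smooth (f ∣_ V)] : f ⁻¹ᵁ V ≤ f.smoothLocus := by
  intro x hx
  haveI : Smooth ((f ⁻¹ᵁ V).ι ≫ f) := by rw [← morphismRestrict_ι]; infer_instance
  have h : (⟨x, hx⟩ : (f ⁻¹ᵁ V).toScheme) ∈ (f ⁻¹ᵁ V).ι ⁻¹ᵁ f.smoothLocus := by
    rw [Scheme.Hom.preimage_smoothLocus_eq, Scheme.Hom.smoothLocus_eq_top]; trivial
  exact h

/-- Generic smoothness on the target: regular source, integral target with perfect function field. -/
theorem exists_open_smooth_of_regular {W G : Scheme.{u}} [IsIntegral G] [PerfectField G.functionField]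
    (q : W ⟶ G) [LocallyOfFinitePresentation q] [QuasiCompact q]
    (hreg : ∀ w : W, IsRegularLocalRing (W.presheaf.stalk w)) :
    ∃ V : G.Opens, (V : Set G).Nonempty ∧ Smooth (q ∣_ V) := by
  let C : Set W := (q.smoothLocus : Set W)ᶜ
  have hC : ProCons.IsProConstructible C := by
    refine H8ProCons.isProConstructible_iff_compl.2 ?_
    rw [compl_compl]
    exact H8ProCons.isIndConstructible_of_isOpen q.smoothLocus.isOpen
  have hE := H8ProCons.isProConstructible_iff_compl.1 (H8ProCons.isProConstructible_image q hC)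
  let V : G.Opens := ⟨interior (q '' C)ᶜ, isOpen_interior⟩
  have key : ∀ (w : W) (y : G) (φ : G.presheaf.stalk y ⟶ W.presheaf.stalk w), y = genericPoint G →
      φ.hom.EssFiniteType → φ.hom.FormallySmooth := by
    rintro w y φ rfl hφ
    algebraize [φ.hom]
    haveI : Algebra.EssFiniteType G.functionField (W.presheaf.stalk w) := hφ
    haveI := hreg w
    exact FlatMor12.GenericSmooth.formallySmooth_of_regular_of_perfect G.functionField (W.presheaf.stalk w)
  have hV : genericPoint G ∈ interior (q '' C)ᶜ := by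
    refine (H8ProCons.mem_interior_iff hE _).2 fun y hy => ?_
    have hgen : y = genericPoint G :=
      (hy.antisymm ((genericPoint_spec G).specializes trivial)).eq
    rintro ⟨x, hx, hxy⟩
    exact hx (Scheme.Hom.mem_smoothLocus.2
      (key x (q x) (q.stalkMap x) (hxy.trans hgen) (LocallyOfFiniteType.stalkMap q x)))
  refine ⟨V, ⟨_, hV⟩, ?_⟩
  have hsq : IsPullback (𝟙 _) (q ∣_ V) ((q ⁻¹ᵁ V).ι ≫ q) V.ι := by
    rw [← morphismRestrict_ι q V]
    have h1 : IsPullback (𝟙 _) (q ∣_ V) (q ∣_ V) (𝟙 _) := IsPullback.of_horiz_isIso ⟨by simp⟩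
    simpa using FlatMor12.GenericSmooth.isPullback_comp_mono h1 V.ι
  haveI : Smooth ((q ⁻¹ᵁ V).ι ≫ q) := by
    rw [← Scheme.Hom.smoothLocus_eq_top_iff, ← Scheme.Hom.preimage_smoothLocus_eq]
    refine top_le_iff.1 fun x _ => ?_
    by_contra hx
    exact interior_subset x.2 ⟨_, hx, rfl⟩
  exact MorphismProperty.of_isPullback (P := @Smooth) hsq ‹_›

section Action

variable {S : Scheme.{u}} {G X : Over S} [GrpObj G] (a : AlgGrp.Action G X)

/-- Translation of `X` by a section of `G`. -/
noncomputable def trX (σ : 𝟙_ (Over S) ⟶ G) : X ⟶ X := smulPt a (toUnit X ≫ σ) (𝟙 X)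

theorem trX_comp (σ τ : 𝟙_ (Over S) ⟶ G) : trX a σ ≫ trX a τ = trX a (τ * σ) := by
  simp only [trX]
  rw [MonObj.comp_mul, mul_smulPt, comp_smulPt, Category.comp_id, ← Category.assoc, comp_toUnit]

theorem trX_one : trX a 1 = 𝟙 X := by
  rw [trX, MonObj.comp_one, one_smulPt]

theorem isIso_trX (σ : 𝟙_ (Over S) ⟶ G) : IsIso (trX a σ) :=
  ⟨trX a σ⁻¹, by rw [trX_comp, inv_mul_cancel, trX_one], by rw [trX_comp, mul_inv_cancel, trX_one]⟩

theorem pt_trX (σ : 𝟙_ (Over S) ⟶ G) (x : 𝟙_ (Over S) ⟶ X) : x ≫ trX a σ = smulPt a σ x := by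
  rw [trX, comp_smulPt, Category.comp_id, ← Category.assoc, comp_toUnit, toUnit_unit, Category.id_comp]

/-- The map `(g, y) ↦ g · f y`. -/
noncomputable def actMap {Y : Over S} (f : Y ⟶ X) : G ⊗ Y ⟶ X := smulPt a (fst G Y) (snd G Y ≫ f)

theorem trX_actMap {Y : Over S} (f : Y ⟶ X) (σ : 𝟙_ (Over S) ⟶ G) :
    (trX (regAction G) σ ▷ Y) ≫ actMap a f = actMap a f ≫ trX a σ := by
  rw [actMap, comp_smulPt, trX, whiskerRight_fst, whiskerRight_snd_assoc, comp_smulPt,
    ← Category.assoc, comp_toUnit, Category.comp_id]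
  have : smulPt (regAction G) (toUnit (G ⊗ Y) ≫ σ) (fst G Y) = (toUnit (G ⊗ Y) ≫ σ) * fst G Y := rfl
  rw [this, mul_smulPt, trX, comp_smulPt, Category.comp_id, ← Category.assoc (smulPt _ _ _), comp_toUnit]

theorem orbitMap_eq (x : 𝟙_ (Over S) ⟶ X) : a.orbitMap x = (ρ_ G).inv ≫ actMap a x := by
  rw [actMap, comp_smulPt]
  show lift (𝟙 G) (toUnit G ≫ x) ≫ a.act = lift _ _ ≫ a.act
  congr 2 <;> simp

end Action

section Homogeneous

variable {k : Type u} [Field k] [IsAlgClosed k]
variable {G X : Over (Spec (CommRingCat.of k))} [GrpObj G] (a : AlgGrp.Action G X)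

/-- The point of a closed point. -/
noncomputable def ptOfClosed (X : Over (Spec (CommRingCat.of k))) [LocallyOfFiniteType X.hom] (p : X.left)
    (hp : IsClosed ({p} : Set X.left)) : 𝟙_ (Over (Spec (CommRingCat.of k))) ⟶ X :=
  Over.homMk (pointOfClosedPoint X.hom p hp) (pointOfClosedPoint_comp X.hom p hp)

theorem ptOfClosed_apply (X : Over (Spec (CommRingCat.of k))) [LocallyOfFiniteType X.hom] (p : X.left)
    (hp : IsClosed ({p} : Set X.left)) : (ptOfClosed X p hp).left (IsLocalRing.closedPoint k) = p :=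
  pointOfClosedPoint_apply X.hom p hp _

variable [LocallyOfFiniteType G.hom] [QuasiCompact G.hom]
  [IsIntegral X.left] [IsSeparated X.hom] [LocallyOfFiniteType X.hom] [QuasiCompact X.hom] [CharZero k]

/-- A homogeneous space in characteristic zero is smooth. -/
theorem smooth_hom_of_homogeneous
    (htrans : ∀ x x' : 𝟙_ (Over (Spec (CommRingCat.of k))) ⟶ X,
      ∃ σ : 𝟙_ (Over (Spec (CommRingCat.of k))) ⟶ G, lift σ x ≫ a.act = x') :
    Smooth X.hom := by
  haveI : IsLocallyNoetherian (Spec (CommRingCat.of k)) := inferInstance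
  haveI : LocallyOfFinitePresentation X.hom := inferInstance
  haveI : JacobsonSpace X.left := LocallyOfFiniteType.jacobsonSpace X.hom
  let U := X.hom.smoothLocus
  have hinv : ∀ σ, (trX a σ).left ⁻¹ᵁ U = U := fun σ => by
    haveI := isIso_trX a σ
    haveI : IsIso (trX a σ).left := inferInstanceAs (IsIso ((Over.forget _).map (trX a σ)))
    rw [Scheme.Hom.preimage_smoothLocus_eq]
    congr 1
    exact Over.w (trX a σ)
  rw [← Scheme.Hom.smoothLocus_eq_top_iff]
  by_contra hne
  obtain ⟨p, hpU, hp⟩ : ((U : Set X.left)ᶜ ∩ closedPoints X.left).Nonempty :=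
    nonempty_inter_closedPoints (Set.nonempty_compl.2 fun h => hne (TopologicalSpace.Opens.ext h))
      U.2.isClosed_compl.isLocallyClosed
  obtain ⟨p₀, hp₀U, hp₀⟩ : ((U : Set X.left) ∩ closedPoints X.left).Nonempty :=
    nonempty_inter_closedPoints ⟨_, Scheme.Hom.genericPoint_mem_smoothLocus_of_perfectField X.hom⟩
      U.2.isLocallyClosed
  obtain ⟨σ, hσ⟩ := htrans (ptOfClosed X p hp) (ptOfClosed X p₀ hp₀)
  have h1 : (trX a σ).left p = p₀ := by
    have := congrArg (fun φ => φ.left (IsLocalRing.closedPoint k))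
      ((pt_trX a σ (ptOfClosed X p hp)).trans hσ)
    simp only [Over.comp_left, Scheme.Hom.comp_apply, ptOfClosed_apply] at this
    exact this
  exact hpU ((hinv σ).le (show (trX a σ).left p ∈ U from h1 ▸ hp₀U))

/-- In characteristic zero `(g, y) ↦ g · f y` is smooth for a homogeneous space and smooth `Y`. -/
theorem smooth_actMap
    (htrans : ∀ x x' : 𝟙_ (Over (Spec (CommRingCat.of k))) ⟶ X,
      ∃ σ : 𝟙_ (Over (Spec (CommRingCat.of k))) ⟶ G, lift σ x ≫ a.act = x')
    {Y : Over (Spec (CommRingCat.of k))} [Smooth Y.hom] [QuasiCompact Y.hom] (f : Y ⟶ X) :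
    Smooth (actMap a f).left := by
  haveI : Smooth G.hom := HopfLib.smooth_of_grpObj G
  haveI hsm : Smooth (G ⊗ Y).hom := by
    change Smooth (pullback.fst G.hom Y.hom ≫ G.hom)
    infer_instance
  haveI : QuasiCompact (G ⊗ Y).hom := by
    change QuasiCompact (pullback.fst G.hom Y.hom ≫ G.hom)
    infer_instance
  let h := (actMap a f).left
  haveI : LocallyOfFinitePresentation h :=
    finitePresentation_of_overField k h (Over.w (actMap a f))
  haveI : QuasiCompact (h ≫ X.hom) := by rw [Over.w]; infer_instance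
  haveI : QuasiCompact h := QuasiCompact.of_comp h X.hom
  haveI := perfectField_functionField k X.hom
  haveI : JacobsonSpace X.left := LocallyOfFiniteType.jacobsonSpace X.hom
  haveI : JacobsonSpace (G ⊗ Y).left := LocallyOfFiniteType.jacobsonSpace (G ⊗ Y).hom
  obtain ⟨V, hV, hsmV⟩ := exists_open_smooth_of_regular h
    (fun w => VarietyLib.isRegularLocalRing_stalk_of_smooth k _ (G ⊗ Y).hom w)
  haveI := hsmV
  let U := h.smoothLocus
  have hinv : ∀ σ, (trX (regAction G) σ ▷ Y).left ⁻¹ᵁ U = U := fun σ => by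
    haveI := isIso_trX (regAction G) σ
    haveI := isIso_trX a σ
    haveI : IsIso (trX (regAction G) σ ▷ Y).left :=
      inferInstanceAs (IsIso ((Over.forget _).map (trX (regAction G) σ ▷ Y)))
    haveI : IsIso (trX a σ).left := inferInstanceAs (IsIso ((Over.forget _).map (trX a σ)))
    rw [Scheme.Hom.preimage_smoothLocus_eq]
    refine Eq.trans ?_ (smoothLocus_comp_iso h (trX a σ).left)
    congr 1
    exact congrArg Over.Hom.left (trX_actMap a f σ)
  rw [← Scheme.Hom.smoothLocus_eq_top_iff]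
  by_contra hne
  obtain ⟨p, hpU, hp⟩ : ((U : Set (G ⊗ Y).left)ᶜ ∩ closedPoints (G ⊗ Y).left).Nonempty :=
    nonempty_inter_closedPoints (Set.nonempty_compl.2 fun h' => hne (TopologicalSpace.Opens.ext h'))
      U.2.isClosed_compl.isLocallyClosed
  obtain ⟨x₀, hx₀V, hx₀⟩ : ((V : Set X.left) ∩ closedPoints X.left).Nonempty :=
    nonempty_inter_closedPoints hV V.2.isLocallyClosed
  obtain ⟨σ, hσ⟩ := htrans (ptOfClosed _ p hp ≫ actMap a f) (ptOfClosed X x₀ hx₀)
  have h1 : h ((trX (regAction G) σ ▷ Y).left p) = x₀ := by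
    have e : ptOfClosed _ p hp ≫ (trX (regAction G) σ ▷ Y) ≫ actMap a f = ptOfClosed X x₀ hx₀ := by
      rw [trX_actMap, ← Category.assoc, pt_trX]
      exact hσ
    have := congrArg (fun φ => φ.left (IsLocalRing.closedPoint k)) e
    simp only [Over.comp_left, Scheme.Hom.comp_apply, ptOfClosed_apply] at this
    exact this
  exact hpU ((hinv σ).le (preimage_le_smoothLocus h V (show h _ ∈ V from h1 ▸ hx₀V)))

end Homogeneous

end Groth.Agent.GenSmoothLib
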